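import Cfsg.Agent.Lib.CharDeg.ThreeDeg.Sec
import Mathlib

/-!
# The two main cases in the three degree theorem
-/

set_option autoImplicit false
set_option linter.unusedSectionVars false

namespace Cfsg.Agent.Lib.CharDeg.ThreeDeg.Cases

open Cfsg Module
open Cfsg.Agent.Lib.Char.Basic Cfsg.Agent.Lib.Char.Ortho Cfsg.Agent.Lib.Char.Complete
open Cfsg.Agent.Lib.Char.Degree Cfsg.Agent.Lib.Char.Clifford Cfsg.Agent.Lib.Char.Induced
open Cfsg.Agent.Lib.Char.Conj Cfsg.Agent.Lib.Char.IndRep Cfsg.Agent.Lib.Char.Taketa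
open Cfsg.Agent.Lib.Char.CliffordCorr Cfsg.Agent.Lib.Char.Linear
open Cfsg.Agent.Lib.CharDeg.ThreeDeg.Lift Cfsg.Agent.Lib.CharDeg.ThreeDeg.Sec
open scoped ComplexConjugate

universe u

variable {G : Type u} [Group G] [Fintype G]

/-- An invariant character stays invariant under its inertia group. -/
theorem inv_of_inertia {F : Subgroup G} (hF : F.Normal) {θ : F → ℂ} {T : Subgroup G} (hFT : F ≤ T)
    (hT : T = inertia hF θ) (c : T) :
    conjOn (hF.subgroupOf T) c (θ ∘ Subgroup.subgroupOfEquivOfLe hFT) =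
      θ ∘ Subgroup.subgroupOfEquivOfLe hFT := by
  funext n
  have hc : (c : G) ∈ inertia hF θ := hT ▸ c.2
  have h1 := congrFun hc (Subgroup.subgroupOfEquivOfLe hFT n)
  rw [conjOn_apply] at h1
  exact (congrArg θ (Subtype.ext rfl)).trans h1

/-- The image in the quotient of a subgroup containing the normal subgroup has the same index. -/
theorem index_map_mk {F : Subgroup G} [hF : F.Normal] {T : Subgroup G} (hFT : F ≤ T) :
    (T.map (QuotientGroup.mk' F)).index = T.index := by
  have h1 : (T.map (QuotientGroup.mk' F)).comap (QuotientGroup.mk' F) = T := by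
    apply Subgroup.comap_map_eq_self
    rw [QuotientGroup.ker_mk']
    exact hFT
  have h2 := Subgroup.index_comap_of_surjective (T.map (QuotientGroup.mk' F))
    (QuotientGroup.mk'_surjective F)
  rw [h1] at h2
  exact h2.symm

/-- The case in which `p` divides the small degree. -/
theorem abelian_of_cyclic_sections {p : ℕ} [hp : Fact p.Prime] (F : Subgroup G) [hF : F.Normal]
    (hFp : IsPGroup p F) (hcyc : ∀ M : Subgroup (G ⧸ F), IsPGroup p M → IsCyclic M) {a : ℕ}
    (hdeg : ∀ χ : IrrCharacter G, p ∣ charDegree (χ : G → ℂ) → charDegree (χ : G → ℂ) = a)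
    [Fintype (G ⧸ F)] {χq : G ⧸ F → ℂ} (hχq : IsIrrCharacter (G ⧸ F) χq) (hχq1 : χq 1 = a) :
    ∀ x ∈ F, ∀ y ∈ F, x * y = y * x := by
  classical
  have hpp : p.Prime := hp.out
  letI : Fintype F := Fintype.ofFinite _
  have hcomm : ∀ x y : F, x * y = y * x := by
    rw [comm_iff_all_deg_one]
    intro θi
    by_contra hne
    set θ : F → ℂ := (θi : F → ℂ) with hθdef
    have hθ : IsIrrCharacter F θ := θi.2
    have hθc := isCharacter_of_isIrrCharacter hθ
    obtain ⟨k, hk⟩ := IsPGroup.iff_card.mp hFp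
    have hdvd := charDegree_dvd_card hθ
    rw [hk] at hdvd
    obtain ⟨i, -, hi⟩ := (Nat.dvd_prime_pow hpp).mp hdvd
    have hθ1 : θ 1 = (charDegree θ : ℂ) := (charDegree_natCast hθc).symm
    have hne' : charDegree θ ≠ 1 := by
      intro h
      apply hne
      change θ 1 = 1
      rw [hθ1, h]
      simp
    have hi0 : i ≠ 0 := by
      rintro rfl
      exact hne' (by simpa using hi)
    have hpθ : p ∣ charDegree θ := by
      rw [hi]
      exact dvd_pow_self p hi0
    let T : Subgroup G := inertia hF θ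
    have hFT : F ≤ T := le_inertia hF (isClassFunction_of_isIrrCharacter hθ)
    letI : Fintype T := Fintype.ofFinite _
    let N' : Subgroup T := F.subgroupOf T
    haveI hN' : N'.Normal := hF.subgroupOf T
    letI : Fintype N' := Fintype.ofFinite _
    let eqv : N' ≃* F := Subgroup.subgroupOfEquivOfLe hFT
    have hN'p : IsPGroup p N' := hFp.of_equiv eqv.symm
    have hθ' : IsIrrCharacter N' (θ ∘ eqv) := isIrrCharacter_comp_mulEquiv eqv hθ
    obtain ⟨ψ, hψ, hψe⟩ := exists_ext_of_cyclic_sections hN' hN'p hθ'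
      (fun c => inv_of_inertia hF hFT rfl c)
      (fun S _ hS => isCyclic_section hcyc T S hS)
    have hext : ∀ n : F, ψ ⟨n, hFT n.2⟩ = θ n := fun n => (hψe (eqv.symm n)).trans (by simp)
    have hi1 : T.index ≠ 0 := Subgroup.index_ne_zero_of_finite
    obtain ⟨hidx, hcm⟩ := index_and_commutator_mem hF hθ hFT rfl hψ hext (d := a)
      (by
        intro χ hχ hcon _
        obtain ⟨e, t, h1, -⟩ := Cfsg.Agent.Lib.Char.DegDvd.dvd_index_of_constituent hF hθ hχ hcon
        have h2 : χ 1 = ((e * t * charDegree θ : ℕ) : ℂ) := by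
          rw [h1, hθ1]
          push_cast
          ring
        have h3 := charDegree_natCast (isCharacter_of_isIrrCharacter hχ)
        rw [h2] at h3
        have h4 : charDegree χ = e * t * charDegree θ := by exact_mod_cast h3
        have h5 := hdeg ⟨χ, hχ⟩ (by
          simp only
          rw [h4]
          exact Dvd.dvd.mul_left hpθ _)
        simp only at h5
        rw [h2, ← h4, h5])
      (by
        rw [hθ1]
        intro h
        have h1 : T.index * charDegree θ = 1 := by exact_mod_cast h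
        exact hne' (Nat.eq_one_of_mul_eq_one_left h1))
    -- the image is abelian
    let B := T.map (QuotientGroup.mk' F)
    have hB : ∀ u ∈ B, ∀ v ∈ B, u * v = v * u := by
      rintro _ ⟨x, hx, rfl⟩ _ ⟨y, hy, rfl⟩
      have h1 := hcm x hx y hy
      have h2 : QuotientGroup.mk' F (x * y * x⁻¹ * y⁻¹) = 1 := by
        rw [QuotientGroup.mk'_apply, QuotientGroup.eq_one_iff]
        exact h1
      simp only [map_mul, map_inv] at h2
      have h3 : QuotientGroup.mk' F x * QuotientGroup.mk' F y =
          (QuotientGroup.mk' F x * QuotientGroup.mk' F y * (QuotientGroup.mk' F x)⁻¹ * (QuotientGroup.mk' F y)⁻¹) *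
            (QuotientGroup.mk' F y * QuotientGroup.mk' F x) := by group
      rw [h3, h2, one_mul]
    have hle := Cfsg.Agent.Lib.Char.TwoDeg.CaseA.le_index_of_abelian hχq hχq1 B hB
    have hBi : B.index = T.index := index_map_mk hFT
    rw [hBi] at hle
    rw [hθ1] at hidx
    have hidx' : T.index * charDegree θ = a := by exact_mod_cast hidx
    have hθ2 : 2 ≤ charDegree θ := by
      have := charDegree_pos hθ
      omega
    have hTpos : 0 < T.index := Nat.pos_of_ne_zero hi1
    nlinarith
  intro x hx y hy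
  exact congrArg Subtype.val (hcomm ⟨x, hx⟩ ⟨y, hy⟩)

/-- The case in which `p` does not divide the index of `F`. -/
theorem commutator_mem_of_coprime {p : ℕ} [hp : Fact p.Prime] (F : Subgroup G) [hF : F.Normal]
    (hFp : IsPGroup p F) (hcop : ¬ p ∣ F.index) {a : ℕ} (ha1 : a ≠ 1) [Fintype (G ⧸ F)]
    (hQcd : ∀ χ : IrrCharacter (G ⧸ F), charDegree (χ : G ⧸ F → ℂ) = 1 ∨ charDegree (χ : G ⧸ F → ℂ) = a)
    (hdeg : ∀ χ : IrrCharacter G, ¬ p ∣ charDegree (χ : G → ℂ) →
      charDegree (χ : G → ℂ) = 1 ∨ charDegree (χ : G → ℂ) = a)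
    {x y : G} (hx : x ∈ commutator G) (hy : y ∈ commutator G) (hc : x * y * x⁻¹ * y⁻¹ ∈ F) :
    x * y * x⁻¹ * y⁻¹ ∈ ⁅F, F⁆ := by
  classical
  have hpp : p.Prime := hp.out
  letI : Fintype F := Fintype.ofFinite _
  -- the derived subgroup fixes every linear character of `F`
  have hinv : ∀ lam : F →* ℂˣ, ∀ z ∈ commutator G, ∀ n : F,
      lam ⟨z * n * z⁻¹, hF.conj_mem n n.2 z⟩ = lam n := by
    intro lam z hz n
    let θ : F → ℂ := fun n => ((lam n : ℂˣ) : ℂ)
    have hθc : IsCharacter F θ := Cfsg.Agent.Lib.CharDeep.LinearChar.isCharacter_of_hom lam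
    have hθ1 : θ 1 = 1 := by simp [θ]
    have hθ : IsIrrCharacter F θ := isIrrCharacter_of_deg_one hθc hθ1
    let T : Subgroup G := inertia hF θ
    have hFT : F ≤ T := le_inertia hF (isClassFunction_of_isIrrCharacter hθ)
    have hzT : z ∈ T := by
      by_contra hzT
      letI : Fintype T := Fintype.ofFinite _
      let N' : Subgroup T := F.subgroupOf T
      haveI hN' : N'.Normal := hF.subgroupOf T
      letI : Fintype N' := Fintype.ofFinite _
      let eqv : N' ≃* F := Subgroup.subgroupOfEquivOfLe hFT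
      have hθ' : IsIrrCharacter N' (θ ∘ eqv) := isIrrCharacter_comp_mulEquiv eqv hθ
      have hcop' : Nat.Coprime (Nat.card N') N'.index := by
        have h1 : Nat.card N' = Nat.card F := Nat.card_congr eqv.toEquiv
        have h2 : N'.index ∣ F.index := Subgroup.relIndex_dvd_index_of_normal F T
        obtain ⟨k, hk⟩ := IsPGroup.iff_card.mp hFp
        rw [h1, hk]
        apply Nat.Coprime.pow_left
        rw [Nat.Prime.coprime_iff_not_dvd hpp]
        exact fun h3 => hcop (h3.trans h2)
      obtain ⟨ψ, hψ, hψe⟩ := Cfsg.Agent.Lib.OddChar.Inertia.exists_ext_of_coprime hN' hθ'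
        (fun c => inv_of_inertia hF hFT rfl c) hcop'
      have hext : ∀ n : F, ψ ⟨n, hFT n.2⟩ = θ n := fun n => (hψe (eqv.symm n)).trans (by simp)
      have hTne : T.index ≠ 1 := by
        rw [Ne, Subgroup.index_eq_one]
        intro h
        exact hzT (h ▸ Subgroup.mem_top z)
      obtain ⟨hidx, -⟩ := index_and_commutator_mem hF hθ hFT rfl hψ hext (d := a)
        (by
          intro χ hχ hcon hne1
          obtain ⟨e, t, h1, h2⟩ := Cfsg.Agent.Lib.Char.DegDvd.dvd_index_of_constituent hF hθ hχ hcon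
          have h3 : χ 1 = ((e * t : ℕ) : ℂ) := by
            rw [h1, hθ1, mul_one]
          have h4 := charDegree_natCast (isCharacter_of_isIrrCharacter hχ)
          rw [h3] at h4
          have h5 : charDegree χ = e * t := by exact_mod_cast h4
          rcases hdeg ⟨χ, hχ⟩ (by
            simp only
            rw [h5]
            exact fun h6 => hcop (h6.trans h2)) with h6 | h6
          · exfalso
            simp only at h6
            apply hne1
            rw [← charDegree_natCast (isCharacter_of_isIrrCharacter hχ), h6]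
            simp
          · simp only at h6
            rw [← charDegree_natCast (isCharacter_of_isIrrCharacter hχ), h6])
        (by
          rw [hθ1, mul_one]
          intro h
          exact hTne (by exact_mod_cast h))
      rw [hθ1, mul_one] at hidx
      have hidx' : T.index = a := by exact_mod_cast hidx
      have hle := commutator_le_of_index hQcd ha1 (T.map (QuotientGroup.mk' F))
        ((index_map_mk hFT).trans hidx')
      have hzQ : QuotientGroup.mk' F z ∈ commutator (G ⧸ F) := by
        have h1 : (commutator G).map (QuotientGroup.mk' F) ≤ commutator (G ⧸ F) := by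
          rw [commutator_def, commutator_def, Subgroup.map_commutator]
          exact Subgroup.commutator_mono le_top le_top
        exact h1 ⟨z, hz, rfl⟩
      obtain ⟨w, hw, hwz⟩ := hle hzQ
      apply hzT
      have h3 : w⁻¹ * z ∈ F := QuotientGroup.eq.mp hwz
      have h4 := T.mul_mem hw (hFT h3)
      simpa using h4
    have hzinv : conjOn hF z θ = θ := hzT
    have h1 := congrFun hzinv n
    rw [conjOn_apply] at h1
    exact Units.ext h1
  -- computing
  have hcF : ∀ lam : F →* ℂˣ, lam ⟨_, hc⟩ = 1 := by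
    intro lam
    have hw : ∀ k : ℕ, ∃ hk : x ^ k * y * (x ^ k)⁻¹ * y⁻¹ ∈ F, lam ⟨_, hk⟩ = lam ⟨_, hc⟩ ^ k := by
      intro k
      induction k with
      | zero =>
        have h0 : x ^ 0 * y * (x ^ 0)⁻¹ * y⁻¹ ∈ F := by simp
        refine ⟨h0, ?_⟩
        have h1 : (⟨_, h0⟩ : F) = 1 := Subtype.ext (by simp)
        rw [h1, map_one, pow_zero]
      | succ k ih =>
        obtain ⟨hk, hlk⟩ := ih
        have h1 : x ^ (k + 1) * y * (x ^ (k + 1))⁻¹ * y⁻¹ =
            (x * (x ^ k * y * (x ^ k)⁻¹ * y⁻¹) * x⁻¹) * (x * y * x⁻¹ * y⁻¹) := by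
          rw [pow_succ']
          group
        have h2 : x ^ (k + 1) * y * (x ^ (k + 1))⁻¹ * y⁻¹ ∈ F := by
          rw [h1]
          exact F.mul_mem (hF.conj_mem _ hk x) hc
        refine ⟨h2, ?_⟩
        have h3 : (⟨_, h2⟩ : F) = ⟨x * (x ^ k * y * (x ^ k)⁻¹ * y⁻¹) * x⁻¹, hF.conj_mem _ hk x⟩ * ⟨_, hc⟩ :=
          Subtype.ext h1
        have h4 : lam ⟨x * (x ^ k * y * (x ^ k)⁻¹ * y⁻¹) * x⁻¹, hF.conj_mem _ hk x⟩ = lam ⟨_, hk⟩ :=
          hinv lam x hx ⟨_, hk⟩
        rw [h3, map_mul, h4, hlk, pow_succ]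
    obtain ⟨hm, hlm⟩ := hw F.index
    have hxm : x ^ F.index ∈ F := Subgroup.pow_index_mem F x
    have h1 : (⟨_, hm⟩ : F) = ⟨_, hxm⟩ * (⟨y * (⟨_, hxm⟩ : F)⁻¹ * y⁻¹, hF.conj_mem _ (F.inv_mem hxm) y⟩) :=
      Subtype.ext (by simp [mul_assoc])
    have h2 : lam ⟨_, hm⟩ = 1 := by
      rw [h1, map_mul]
      have h3 := hinv lam y hy (⟨_, hxm⟩ : F)⁻¹
      rw [h3, map_inv, mul_inv_cancel]
    rw [h2] at hlm
    have h3 : lam ⟨_, hc⟩ ^ Nat.card F = 1 := by
      rw [← map_pow, pow_card_eq_one']
      simp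
    have h4 := pow_gcd_eq_one.mpr ⟨hlm.symm, h3⟩
    have h5 : Nat.gcd F.index (Nat.card F) = 1 := by
      obtain ⟨k, hk⟩ := IsPGroup.iff_card.mp hFp
      rw [hk]
      apply Nat.Coprime.pow_right
      apply Nat.Coprime.symm
      rw [Nat.Prime.coprime_iff_not_dvd hpp]
      exact hcop
    rw [h5, pow_one] at h4
    exact h4
  have h1 := mem_commutator_of_forall_hom hcF
  have h2 : (commutator F).map F.subtype = ⁅F, F⁆ := Subgroup.map_subtype_commutator F
  rw [← h2]
  exact ⟨_, h1, rfl⟩

end Cfsg.Agent.Lib.CharDeg.ThreeDeg.Cases
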