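import Cfsg.Agent.Lib.CharDeep.ThompsonDeg
import Cfsg.Agent.Lib.Char.DetChar
import Cfsg.Agent.Lib.Char.IndRep
import Cfsg.Agent.Lib.KerFit.Main
import Cfsg.Agent.Lib.CharDeep.LinearChar
import Mathlib

/-!
# A perfect normal subgroup over which all degrees are divisible by `p` has order prime to `p`
-/

set_option autoImplicit false
set_option linter.unusedSectionVars false

namespace Cfsg.Agent.Lib.CharDeg.ThreeDeg.Perfect

open Cfsg Module
open Cfsg.Agent.Lib.Char.Basic Cfsg.Agent.Lib.Char.Ortho Cfsg.Agent.Lib.Char.Complete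
open Cfsg.Agent.Lib.Char.Degree Cfsg.Agent.Lib.Char.Clifford Cfsg.Agent.Lib.Char.Induced
open Cfsg.Agent.Lib.Char.Conj Cfsg.Agent.Lib.Char.IndRep
open Cfsg.Agent.Lib.CharDeep.ThompsonDeg Cfsg.Agent.Lib.CharDeep.LinearChar
open scoped ComplexConjugate Pointwise

universe u

/-- A character whose degree is not divisible by `q` has a constituent of such a degree. -/
theorem exists_constituent_not_dvd {X : Type u} [Group X] [Fintype X] {Ψ : X → ℂ} (hΨ : IsCharacter X Ψ)
    {q n : ℕ} (hn : Ψ 1 = n) (hq : ¬ q ∣ n) :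
    ∃ ω : X → ℂ, IsIrrCharacter X ω ∧ classInner Ψ ω ≠ 0 ∧ ¬ q ∣ charDegree ω := by
  classical
  have := finite_irrCharacter (G := X)
  letI := Fintype.ofFinite (IrrCharacter X)
  by_contra hcon
  push Not at hcon
  apply hq
  obtain ⟨m, hm⟩ := exists_nat_combination hΨ
  have h1 := congrFun hm 1
  simp only [hn, Finset.sum_apply, Pi.smul_apply] at h1
  have h2 : n = ∑ i : IrrCharacter X, m i * charDegree (i : X → ℂ) := by
    have h3 : (n : ℂ) = ((∑ i : IrrCharacter X, m i * charDegree (i : X → ℂ) : ℕ) : ℂ) := by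
      rw [h1]
      push_cast
      refine Finset.sum_congr rfl fun i _ => ?_
      rw [charDegree_natCast (isCharacter_of_isIrrCharacter i.2), nsmul_eq_mul]
    exact_mod_cast h3
  rw [h2]
  apply Finset.dvd_sum
  intro i _
  by_cases hi : m i = 0
  · simp [hi]
  · apply Dvd.dvd.mul_left
    apply hcon i i.2
    rw [hm, classInner_of_nat_combination]
    exact_mod_cast hi

variable {G : Type u} [Group G] [Finite G]

/-- The main result. -/
theorem not_dvd_card (K : Subgroup G) [hK : K.Normal] (hperf : ∀ ν : K →* ℂˣ, ν = 1) {p : ℕ}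
    [hp : Fact p.Prime]
    (hdeg : ∀ χ : IrrCharacter G, (∃ x ∈ K, (χ : G → ℂ) x ≠ (χ : G → ℂ) 1) → p ∣ charDegree (χ : G → ℂ)) :
    ¬ p ∣ Nat.card K := by
  classical
  have hpp : p.Prime := hp.out
  letI := Fintype.ofFinite G
  letI : Fintype K := Fintype.ofFinite K
  have := finite_irrCharacter (G := K)
  letI := Fintype.ofFinite (IrrCharacter K)
  let P : Sylow p G := Classical.arbitrary _
  have hPg : IsPGroup p (P : Subgroup G) := P.isPGroup'
  letI aG : MulAction G (IrrCharacter K) := irrAction K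
  letI aQ : MulAction (P : Subgroup G) (IrrCharacter K) := MulAction.compHom _ (P : Subgroup G).subtype
  have hsmul : ∀ (x : (P : Subgroup G)) (θ : IrrCharacter K), x • θ = conjIrr K (x : G) θ := fun _ _ => rfl
  let w : IrrCharacter K → ℕ := fun θ => charDegree (θ : K → ℂ) ^ 2
  have hdegconj : ∀ (g : G) (θ : IrrCharacter K),
      charDegree (conjIrr K g θ : K → ℂ) = charDegree (θ : K → ℂ) := by
    intro g θ
    apply charDegree_eq_of_eq_natCast
    rw [conjIrr_apply, map_one, ← charDegree_natCast (isCharacter_of_isIrrCharacter θ.2)]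
  have hw : ∀ (q : (P : Subgroup G)) (θ : IrrCharacter K), w (q • θ) = w θ := by
    intro q θ
    simp only [w]
    rw [hsmul, hdegconj]
  let _ : Fintype (MulAction.fixedPoints (P : Subgroup G) (IrrCharacter K)) := Fintype.ofFinite _
  have hcong := sum_modEq_sum_fixed (p := p) hPg w hw
  have hsum : ∑ θ, w θ = Nat.card K := sum_charDegree_sq
  rw [hsum] at hcong
  -- the trivial character
  let one' : IrrCharacter K := ⟨fun _ => 1, Cfsg.Agent.Lib.Char.Linear.isIrrCharacter_of_deg_one isCharacter_one rfl⟩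
  have hone' : one' ∈ MulAction.fixedPoints (P : Subgroup G) (IrrCharacter K) := by
    intro x
    rw [hsmul]
    apply Subtype.ext
    funext y
    rfl
  -- the key
  have key : ∀ θ : MulAction.fixedPoints (P : Subgroup G) (IrrCharacter K),
      ¬ p ∣ charDegree ((θ : IrrCharacter K) : K → ℂ) → (θ : IrrCharacter K) = one' := by
    rintro ⟨θ, hθfix⟩ hnd
    simp only at hnd ⊢
    set d := charDegree (θ : K → ℂ) with hd
    have hθc := isCharacter_of_isIrrCharacter θ.2
    have hd' : (θ : K → ℂ) 1 = d := (charDegree_natCast hθc).symm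
    -- invariance under `P`
    have hinvP : ∀ x ∈ (P : Subgroup G), ∀ y : K, (θ : K → ℂ) ⟨x⁻¹ * y * x, by
        simpa using hK.conj_mem (y : G) y.2 x⁻¹⟩ = (θ : K → ℂ) y := by
      intro x hx y
      have h1 := hθfix ⟨x, hx⟩
      rw [hsmul] at h1
      have h2 := congrFun (congrArg Subtype.val h1) y
      rw [conjIrr_apply] at h2
      rw [← h2]
      refine congrArg (θ : K → ℂ) (Subtype.ext ?_)
      simp
    let H : Subgroup G := K ⊔ (P : Subgroup G)
    have hKH : K ≤ H := le_sup_left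
    have hPH : (P : Subgroup G) ≤ H := le_sup_right
    letI : Fintype H := Fintype.ofFinite H
    let K₁ : Subgroup H := K.subgroupOf H
    have hK₁ : K₁.Normal := inferInstance
    let e : K₁ ≃* K := Subgroup.subgroupOfEquivOfLe hKH
    let θ₁ : K₁ → ℂ := (θ : K → ℂ) ∘ e
    have hθ₁ : IsIrrCharacter K₁ θ₁ := isIrrCharacter_comp_mulEquiv e θ.2
    have hθ₁v : ∀ y : K₁, θ₁ y = (θ : K → ℂ) ⟨y.1.1, y.2⟩ := fun y => rfl
    have hinv₁ : ∀ h : H, conjOn hK₁ h θ₁ = θ₁ := by
      intro h
      funext y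
      rw [conjOn_apply, hθ₁v, hθ₁v]
      have hh : (h : G) ∈ ((K : Set G) * ((P : Subgroup G) : Set G)) := by
        rw [← Subgroup.normal_mul]
        exact h.2
      obtain ⟨k, hk, x, hx, hkx⟩ := Set.mem_mul.mp hh
      have hx' : x⁻¹ ∈ (P : Subgroup G) := (P : Subgroup G).inv_mem hx
      have h1 := hinvP x⁻¹ hx' ⟨y.1.1, y.2⟩
      have h2 := isClassFunction_of_isIrrCharacter θ.2 (⟨(x⁻¹)⁻¹ * (y.1.1 : G) * x⁻¹, by
        simpa using hK.conj_mem (y.1.1 : G) y.2 x⟩ : K) ⟨k, hk⟩
      rw [← h1, ← h2]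
      refine congrArg (θ : K → ℂ) (Subtype.ext ?_)
      simp [← hkx, mul_assoc]
    have hθ₁1 : θ₁ 1 = d := by
      rw [hθ₁v]
      exact hd'
    have hcop : Nat.Coprime K₁.index d := by
      have h1 : K₁.index = K.relIndex (P : Subgroup G) := by
        change K.relIndex H = _
        exact Subgroup.relIndex_sup_left _ _ |>.trans rfl
      have h2 : K.relIndex (P : Subgroup G) ∣ Nat.card (P : Subgroup G) := Subgroup.relIndex_dvd_card _ _
      obtain ⟨n, hn⟩ := IsPGroup.iff_card.mp hPg
      rw [hn] at h2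
      obtain ⟨j, -, hj⟩ := (Nat.dvd_prime_pow hpp).mp h2
      rw [h1, hj]
      apply Nat.Coprime.pow_left
      exact (Nat.Prime.coprime_iff_not_dvd hpp).mpr hnd
    have hdet : ∀ n : K₁, detChar θ₁ n = 1 := by
      intro n
      have hc := Cfsg.Agent.Lib.Char.DetChar.isCharacter_detChar (isCharacter_of_isIrrCharacter hθ₁)
      have h1 := Cfsg.Agent.Lib.Char.DetChar.detChar_one (isCharacter_of_isIrrCharacter hθ₁)
      let ν : K →* ℂˣ := (toHom hc h1).comp e.symm.toMonoidHom
      have h2 := hperf ν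
      have h3 : ν (e n) = 1 := by rw [h2]; rfl
      have h4 : ν (e n) = toHom hc h1 n := by
        simp [ν]
      rw [h4] at h3
      have h5 := coe_toHom hc h1 n
      rw [h3] at h5
      simpa using h5.symm
    obtain ⟨χ₁, hχ₁, hχ₁N⟩ := (Cfsg.Agent.Lib.Char.DetChar.exists_irr_ext_iff_det hK₁ hθ₁ hinv₁ hθ₁1 hcop).mpr
      ⟨fun _ => 1, isCharacter_one, rfl, fun n => (hdet n).symm⟩
    have hχ₁c := isCharacter_of_isIrrCharacter hχ₁
    have hχ₁1 : χ₁ 1 = d := by
      have := hχ₁N 1
      simp only [OneMemClass.coe_one] at this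
      rw [this, hθ₁1]
    have hΨ := isCharacter_indFun H hχ₁c
    have hΨ1 : indFun H χ₁ 1 = ((H.index * d : ℕ) : ℂ) := by
      rw [indFun_one, hχ₁1]
      push_cast
      rfl
    have hnd2 : ¬ p ∣ H.index * d := by
      rw [hpp.dvd_mul]
      rintro (h | h)
      · exact P.not_dvd_index (h.trans (Subgroup.index_dvd_of_le hPH))
      · exact hnd h
    obtain ⟨χ, hχ, hχc, hχd⟩ := exists_constituent_not_dvd hΨ hΨ1 hnd2
    have hker : ∀ x ∈ K, χ x = χ 1 := by
      by_contra hcon
      push Not at hcon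
      obtain ⟨x, hx, hxne⟩ := hcon
      exact hχd (hdeg ⟨χ, hχ⟩ ⟨x, hx, hxne⟩)
    rw [classInner_indFun_left H _ _ (isClassFunction_of_isIrrCharacter hχ)] at hχc
    have hχc' := classInner_ne_zero_comm hχc
    have hθker : ∀ k : K, (θ : K → ℂ) k = (θ : K → ℂ) 1 := by
      intro k
      have h1 := Cfsg.Agent.Lib.KerFit.Main.ker_of_constituent
        (isCharacter_restrict H (isCharacter_of_isIrrCharacter hχ)) hχ₁ hχc' (y := ⟨k, hKH k.2⟩)
        (by simpa using hker k k.2)
      have h2 := hχ₁N ⟨⟨k, hKH k.2⟩, k.2⟩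
      have h3 : θ₁ ⟨⟨k, hKH k.2⟩, k.2⟩ = (θ : K → ℂ) k := rfl
      rw [← h3, ← h2]
      change χ₁ ⟨k, hKH k.2⟩ = _
      rw [h1, hχ₁1, hd']
    -- so `θ` is trivial
    have hθc1 := classInner_self_of_isIrr θ.2
    rw [classInner_def] at hθc1
    have hcard : (Nat.card K : ℂ) ≠ 0 := by exact_mod_cast Nat.card_pos.ne'
    have h1 : ∑ g : K, (θ : K → ℂ) g * conj ((θ : K → ℂ) g) = (Nat.card K : ℂ) * ((d : ℂ) * d) := by
      rw [Finset.sum_congr rfl (g := fun _ => (d : ℂ) * d) (fun g _ => by
        rw [hθker g, hd']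
        simp)]
      simp [Nat.card_eq_fintype_card]
    rw [h1] at hθc1
    have h2 : (d : ℂ) * d = 1 := by
      field_simp at hθc1
      linear_combination hθc1
    have h3 : d * d = 1 := by exact_mod_cast h2
    have h4 : d = 1 := Nat.eq_one_of_mul_eq_one_right h3
    apply Subtype.ext
    funext k
    rw [hθker k, hd', h4]
    simp [one']
  -- the congruence
  have hfinal : (Nat.card K : ZMod p) = 1 := by
    have h1 := (ZMod.natCast_eq_natCast_iff _ _ _).mpr hcong
    rw [h1]
    push_cast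
    rw [Finset.sum_eq_single (⟨one', hone'⟩ : MulAction.fixedPoints (P : Subgroup G) (IrrCharacter K))]
    · have h2 : w one' = 1 := by
        simp only [w]
        have : charDegree ((one' : IrrCharacter K) : K → ℂ) = 1 := by
          apply charDegree_eq_of_eq_natCast
          simp [one']
        rw [this]
        rfl
      simp [h2]
    · intro θ _ hθ
      have h2 : p ∣ charDegree ((θ : IrrCharacter K) : K → ℂ) := by
        by_contra hnd
        apply hθ
        exact Subtype.ext (key θ hnd)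
      simp only [w]
      rw [ZMod.natCast_eq_zero_iff]
      exact h2.trans (dvd_pow_self _ two_ne_zero)
    · intro h
      exact absurd (Finset.mem_univ _) h
  intro hdvd
  have h0 : (Nat.card K : ZMod p) = 0 := (ZMod.natCast_eq_zero_iff _ _).mpr hdvd
  rw [h0] at hfinal
  exact zero_ne_one hfinal

end Cfsg.Agent.Lib.CharDeg.ThreeDeg.Perfect
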