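import Cfsg.Agent.Lib.CharDeg.ThreeDeg.Dich
import Cfsg.Agent.Lib.CharDeg.ThreeDeg.Perfect
import Cfsg.Agent.S4456
import Cfsg.Agent.Lib.Char.DegDvd
import Cfsg.Agent.Lib.Char.Eigen
import Cfsg.Agent.Lib.Char.Monomial
import Cfsg.Agent.Lib.Char.Linear
import Cfsg.Agent.Lib.CharDeg.SmallDegree
import Mathlib

/-!
# A finite group with at most three irreducible character degrees is solvable
-/

set_option autoImplicit false
set_option linter.unusedSectionVars false

namespace Cfsg.Agent.Lib.CharDeg.ThreeDeg.Solv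

open Cfsg Module
open Cfsg.Agent.Lib.Char.Basic Cfsg.Agent.Lib.Char.Ortho Cfsg.Agent.Lib.Char.Complete
open Cfsg.Agent.Lib.Char.Degree Cfsg.Agent.Lib.Char.Clifford Cfsg.Agent.Lib.Char.Induced
open Cfsg.Agent.Lib.Char.Conj
open scoped ComplexConjugate

universe u

/-- At most three degrees. -/
def Hyp3 (G : Type u) [Group G] : Prop :=
  ∃ D : Finset ℕ, D.card ≤ 3 ∧ ∀ χ : IrrCharacter G, charDegree (χ : G → ℂ) ∈ D

variable {G : Type u} [Group G] [Finite G]

/-- The degree of a composition with a quotient map. -/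
theorem charDegree_comp_mk (N : Subgroup G) [N.Normal] (φ : G ⧸ N → ℂ) :
    charDegree (φ ∘ QuotientGroup.mk' N) = charDegree φ := by
  unfold charDegree
  simp

theorem Hyp3.quotient (h : Hyp3 G) (N : Subgroup G) [N.Normal] : Hyp3 (G ⧸ N) := by
  obtain ⟨D, hD, hdeg⟩ := h
  refine ⟨D, hD, fun φ => ?_⟩
  have hir := Cfsg.Agent.Lib.Char.Linear.isIrrCharacter_comp (QuotientGroup.mk' N)
    (QuotientGroup.mk'_surjective N) φ.2
  have h1 := hdeg ⟨_, hir⟩
  have h2 : charDegree ((φ : G ⧸ N → ℂ) ∘ QuotientGroup.mk' N) = charDegree (φ : G ⧸ N → ℂ) :=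
    charDegree_comp_mk N _
  simp only at h1
  rwa [h2] at h1

/-- A normal `p`-complement inherits the hypothesis. -/
theorem Hyp3.complement (h : Hyp3 G) (N : Subgroup G) (hN : N.Normal) {p : ℕ} (hp : p.Prime)
    (hc : (Nat.card N).Coprime p) {k : ℕ} (hk : N.index = p ^ k) : Hyp3 N := by
  classical
  obtain ⟨D, hD, hdeg⟩ := h
  letI := Fintype.ofFinite G
  letI : Fintype N := Fintype.ofFinite N
  refine ⟨D.image (fun n => n / p ^ n.factorization p), Finset.card_image_le.trans hD, fun θ => ?_⟩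
  obtain ⟨ξ, hξ, hcon⟩ := Cfsg.Agent.Lib.CharDeg.SmallDegree.exists_irr_constituent_restrict N θ.2
  rw [Finset.mem_image]
  refine ⟨_, hdeg ⟨ξ, hξ⟩, ?_⟩
  simp only
  obtain ⟨e, t, het, hdvd⟩ := Cfsg.Agent.Lib.Char.DegDvd.dvd_index_of_constituent hN θ.2 hξ hcon
  rw [hk] at hdvd
  obtain ⟨j, -, hj⟩ := (Nat.dvd_prime_pow hp).mp hdvd
  have hθc := isCharacter_of_isIrrCharacter θ.2
  have hξc := isCharacter_of_isIrrCharacter hξ
  have h1 : charDegree ξ = p ^ j * charDegree (θ : N → ℂ) := by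
    have h2 : (charDegree ξ : ℂ) = ((p ^ j * charDegree (θ : N → ℂ) : ℕ) : ℂ) := by
      rw [charDegree_natCast hξc, het, hj]
      push_cast
      rw [charDegree_natCast hθc]
    exact_mod_cast h2
  have hnd : ¬ p ∣ charDegree (θ : N → ℂ) := by
    intro hd
    have h2 := hd.trans (charDegree_dvd_card θ.2)
    have h3 := Nat.dvd_gcd h2 dvd_rfl
    rw [hc] at h3
    exact hp.one_lt.ne' (Nat.dvd_one.mp h3)
  have hpos := charDegree_pos θ.2
  rw [h1]
  have h2 : (p ^ j * charDegree (θ : N → ℂ)).factorization p = j := by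
    rw [Nat.factorization_mul (pow_ne_zero _ hp.ne_zero) hpos.ne']
    simp [hp.factorization_self, Nat.factorization_eq_zero_of_not_dvd hnd, hp.factorization_pow]
  rw [h2]
  exact Nat.mul_div_cancel_left _ (pow_pos hp.pos _)

/-- A hom to `ℂˣ` from a perfect subgroup is trivial. -/
theorem hom_eq_one_of_perfect (K : Subgroup G) (hKK : ⁅K, K⁆ = K) (ν : K →* ℂˣ) : ν = 1 := by
  ext x
  have h1 : K ≤ (ν.ker).map K.subtype := by
    conv_lhs => rw [← hKK]
    rw [Subgroup.commutator_le]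
    intro a ha b hb
    refine ⟨⟨a, ha⟩ * ⟨b, hb⟩ * (⟨a, ha⟩ : K)⁻¹ * (⟨b, hb⟩ : K)⁻¹, ?_, rfl⟩
    change ν _ = 1
    rw [map_mul, map_mul, map_mul, map_inv, map_inv]
    rw [mul_comm (ν ⟨a, ha⟩) (ν ⟨b, hb⟩)]
    simp
  obtain ⟨y, hy, hyx⟩ := h1 x.2
  have : y = x := Subtype.ext hyx
  rw [← this]
  have h2 : ν y = 1 := hy
  rw [h2]
  rfl

/-- If `K` is perfect and contained in all nontrivial normal subgroups, then the norm of a faithful
character does not take its degree squared off the identity. -/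
theorem mul_conj_faithful (K : Subgroup G) (hKK : ⁅K, K⁆ = K)
    (hmin : ∀ N : Subgroup G, N.Normal → N ≠ ⊥ → K ≤ N) {χ : G → ℂ} (hχ : IsIrrCharacter G χ)
    (hne : ∃ x ∈ K, χ x ≠ χ 1) : ∀ g, χ g * conj (χ g) = χ 1 * conj (χ 1) → g = 1 := by
  classical
  intro g hg
  by_contra hg1
  obtain ⟨n, ρ, hρ, rfl⟩ := hχ
  have := hρ
  let C := Cfsg.Agent.Lib.Char.Monomial.scalarSubgroup ρ
  have hCn : C.Normal := Cfsg.Agent.Lib.Char.Monomial.scalarSubgroup_normal ρ
  have hgC : g ∈ C := by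
    have h1 : ‖ρ.character g‖ = (finrank ℂ (Fin n → ℂ) : ℝ) := by
      have h2 : ρ.character 1 = (finrank ℂ (Fin n → ℂ) : ℂ) := Representation.char_one ρ
      rw [h2] at hg
      simp only [map_natCast] at hg
      rw [Complex.mul_conj] at hg
      have h3 : Complex.normSq (ρ.character g) = ((finrank ℂ (Fin n → ℂ) : ℝ)) ^ 2 := by
        have h4 : ((Complex.normSq (ρ.character g) : ℝ) : ℂ) = (((finrank ℂ (Fin n → ℂ) : ℝ) ^ 2 : ℝ) : ℂ) := by
          rw [hg]
          push_cast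
          ring
        exact_mod_cast h4
      rw [Complex.normSq_eq_norm_sq] at h3
      have h5 : (0 : ℝ) ≤ (finrank ℂ (Fin n → ℂ) : ℝ) := Nat.cast_nonneg _
      exact (sq_eq_sq₀ (norm_nonneg _) h5).mp h3
    obtain ⟨ω, hω⟩ := (Cfsg.Agent.Lib.Char.Eigen.norm_character_eq_iff_scalar ρ g).mp h1
    exact ⟨ω, hω⟩
  have hCne : C ≠ ⊥ := by
    intro h0
    rw [h0] at hgC
    exact hg1 hgC
  have hKC := hmin C hCn hCne
  -- `K` lies in the kernel
  obtain ⟨x, hx, hxne⟩ := hne
  apply hxne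
  have hker : K ≤ ρ.ker := by
    conv_lhs => rw [← hKK]
    rw [Subgroup.commutator_le]
    intro a ha b hb
    obtain ⟨c, hc⟩ := hKC ha
    obtain ⟨d, hd⟩ := hKC hb
    rw [MonoidHom.mem_ker]
    have h1 : ρ a * ρ b = ρ b * ρ a := by
      rw [hc, hd]
      simp [smul_smul, mul_comm]
    have h2 : ρ (a * b) = ρ (b * a) := by rw [map_mul, map_mul, h1]
    have h3 : a * b * a⁻¹ * b⁻¹ = (a * b) * (b * a)⁻¹ := by group
    rw [commutatorElement_def, h3, map_mul, h2, ← map_mul, mul_inv_cancel, map_one]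
  have h1 : ρ x = 1 := hker hx
  simp only [Representation.character, h1, map_one]

/-- **At most three degrees implies solvable**. -/
theorem isSolvable_of_hyp3 (h : Hyp3 G) : Group.IsSolvable G := by
  classical
  induction' hn : Nat.card G using Nat.strong_induction_on with n ih generalizing G
  subst hn
  by_contra hns
  letI := Fintype.ofFinite G
  have hna : ¬ ∀ a b : G, a * b = b * a := fun hc => hns (Group.isSolvable_of_comm hc)
  have hnt : Nontrivial G := by
    by_contra hnt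
    rw [not_nontrivial_iff_subsingleton] at hnt
    exact hna fun a b => Subsingleton.elim _ _
  obtain ⟨χ₁, hχ₁⟩ : ∃ χ : IrrCharacter G, charDegree (χ : G → ℂ) ≠ 1 := by
    by_contra hall
    push Not at hall
    apply hna
    rw [Cfsg.Agent.Lib.Char.Linear.comm_iff_all_deg_one]
    intro χ
    rw [← charDegree_natCast (isCharacter_of_isIrrCharacter χ.2), hall χ]
    simp
  have hdeg1 : ∀ χ : IrrCharacter G, (charDegree (χ : G → ℂ) : ℂ) = (χ : G → ℂ) 1 := fun χ =>
    charDegree_natCast (isCharacter_of_isIrrCharacter χ.2)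
  by_cases hdiv : ∃ p : ℕ, p.Prime ∧ ∀ χ : IrrCharacter G, charDegree (χ : G → ℂ) ≠ 1 → p ∣ charDegree (χ : G → ℂ)
  · -- Thompson's theorem applies
    obtain ⟨p, hp, hall⟩ := hdiv
    obtain ⟨N, hNn, hNc, k, hk⟩ := Cfsg.Agent.S4456.result p hp hall
    have hpG : p ∣ Nat.card G := (hall χ₁ hχ₁).trans (charDegree_dvd_card χ₁.2)
    have hNtop : N ≠ ⊤ := by
      rintro rfl
      rw [Subgroup.card_top] at hNc
      have h3 := Nat.dvd_gcd hpG dvd_rfl
      rw [hNc] at h3
      exact hp.one_lt.ne' (Nat.dvd_one.mp h3)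
    have hlt : Nat.card N < Nat.card G := by
      have h1 := Subgroup.card_mul_index N
      have h2 : N.index ≠ 1 := fun h3 => hNtop (Subgroup.index_eq_one.mp h3)
      have h3 : N.index ≠ 0 := Subgroup.index_ne_zero_of_finite
      have h4 : 0 < Nat.card N := Nat.card_pos
      have h5 : 2 ≤ N.index := by omega
      nlinarith
    haveI hsolN : Group.IsSolvable N := ih _ hlt (h.complement N hNn hp hNc hk) rfl
    haveI hfp : Fact p.Prime := ⟨hp⟩
    haveI : N.Normal := hNn
    have hPq : IsPGroup p (G ⧸ N) := IsPGroup.of_card (n := k) (by rw [← hk]; rfl)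
    haveI : Group.IsNilpotent (G ⧸ N) := hPq.isNilpotent
    haveI : Group.IsSolvable (G ⧸ N) := inferInstance
    apply hns
    exact Group.isSolvable_of_ker_le_range N.subtype (QuotientGroup.mk' N) (by
      rw [QuotientGroup.ker_mk']
      intro x hx
      exact ⟨⟨x, hx⟩, rfl⟩)
  push Not at hdiv
  -- two degrees
  set a := charDegree (χ₁ : G → ℂ) with ha
  have ha2 : 2 ≤ a := by
    have := charDegree_pos χ₁.2
    omega
  obtain ⟨χ₂, hχ₂, hχ₂p⟩ := hdiv a.minFac (Nat.minFac_prime (by omega))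
  set b := charDegree (χ₂ : G → ℂ) with hb
  have hb2 : 2 ≤ b := by
    have := charDegree_pos χ₂.2
    omega
  have hab : a ≠ b := by
    intro h0
    apply hχ₂p
    rw [← h0]
    exact Nat.minFac_dvd a
  obtain ⟨D, hDc, hD⟩ := h
  have hone : (1 : ℕ) ∈ D := by
    have h1 := hD ⟨fun _ => 1, Cfsg.Agent.Lib.Char.Linear.isIrrCharacter_of_deg_one isCharacter_one rfl⟩
    have h2 : charDegree (fun _ : G => (1 : ℂ)) = 1 := charDegree_eq_of_eq_natCast (by simp)
    simp only at h1
    rwa [h2] at h1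
  have hsub : ({1, a, b} : Finset ℕ) ⊆ D := by
    intro x hx
    simp only [Finset.mem_insert, Finset.mem_singleton] at hx
    rcases hx with rfl | rfl | rfl
    · exact hone
    · exact hD χ₁
    · exact hD χ₂
  have hcard3 : ({1, a, b} : Finset ℕ).card = 3 := by
    rw [Finset.card_insert_of_notMem, Finset.card_insert_of_notMem, Finset.card_singleton]
    · simpa using hab
    · simp only [Finset.mem_insert, Finset.mem_singleton, not_or]
      exact ⟨by omega, by omega⟩
  have hDeq : ({1, a, b} : Finset ℕ) = D := Finset.eq_of_subset_of_card_le hsub (by rw [hcard3]; exact hDc)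
  have hall : ∀ χ : IrrCharacter G, charDegree (χ : G → ℂ) = 1 ∨ charDegree (χ : G → ℂ) = a ∨ charDegree (χ : G → ℂ) = b := by
    intro χ
    have h1 := hD χ
    rw [← hDeq] at h1
    simpa using h1
  have hcop : Nat.Coprime a b := by
    rw [Nat.coprime_iff_gcd_eq_one] 
    by_contra hg
    have hq := Nat.minFac_prime hg
    have hqa := (Nat.minFac_dvd (Nat.gcd a b)).trans (Nat.gcd_dvd_left a b)
    have hqb := (Nat.minFac_dvd (Nat.gcd a b)).trans (Nat.gcd_dvd_right a b)
    obtain ⟨χ, hχ, hχq⟩ := hdiv _ hq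
    rcases hall χ with h1 | h1 | h1
    · exact hχ h1
    · rw [h1] at hχq
      exact hχq hqa
    · rw [h1] at hχq
      exact hχq hqb
  have hcd : ∀ ω : G → ℂ, IsIrrCharacter G ω → ω 1 = 1 ∨ ω 1 = a ∨ ω 1 = b := by
    intro ω hω
    have h1 := charDegree_natCast (isCharacter_of_isIrrCharacter hω)
    rcases hall ⟨ω, hω⟩ with h2 | h2 | h2 <;> simp only at h2 <;> rw [h2] at h1
    · left; rw [← h1]; simp
    · right; left; exact h1.symm
    · right; right; exact h1.symm
  -- the quotients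
  have hq : ∀ (N : Subgroup G) [N.Normal], N ≠ ⊥ → Group.IsSolvable (G ⧸ N) := by
    intro N hN hN0
    apply ih (Nat.card (G ⧸ N)) _ (Hyp3.quotient ⟨D, hDc, hD⟩ N) rfl
    have h1 := Subgroup.card_mul_index N
    have h2 : Nat.card N ≠ 1 := fun h3 => hN0 (Subgroup.card_eq_one.mp h3)
    have h3 : 0 < Nat.card N := Nat.card_pos
    have h4 : 0 < N.index := Nat.pos_of_ne_zero Subgroup.index_ne_zero_of_finite
    have h5 : 2 ≤ Nat.card N := by omega
    change N.index < _
    nlinarith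
  -- a minimal normal subgroup
  obtain ⟨K, hKmin⟩ := (Set.toFinite {N : Subgroup G | N.Normal ∧ N ≠ ⊥}).exists_minimal
    ⟨⊤, inferInstance, top_ne_bot⟩
  have hKn : K.Normal := hKmin.prop.1
  have hK0 : K ≠ ⊥ := hKmin.prop.2
  haveI := hKn
  have hmin : ∀ N : Subgroup G, N.Normal → N ≠ ⊥ → K ≤ N := by
    intro N hN hN0
    by_contra hle
    have h1 : N ⊓ K = ⊥ := by
      by_contra h2
      have h3 : K ≤ N ⊓ K := hKmin.le_of_le ⟨inferInstance, h2⟩ inf_le_right
      exact hle (h3.trans inf_le_left)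
    haveI := hN
    haveI := hq N hN0
    haveI := hq K hK0
    apply hns
    let f : G →* (G ⧸ N) × (G ⧸ K) := (QuotientGroup.mk' N).prod (QuotientGroup.mk' K)
    refine Group.isSolvable_of_isSolvable_injective (f := f) ?_
    rw [injective_iff_map_eq_one]
    intro g hg
    have h2 := congrArg Prod.fst hg
    have h3 := congrArg Prod.snd hg
    have h4 : g ∈ N := (QuotientGroup.eq_one_iff g).mp h2
    have h5 : g ∈ K := (QuotientGroup.eq_one_iff g).mp h3
    have h6 : g ∈ N ⊓ K := ⟨h4, h5⟩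
    rw [h1] at h6
    exact h6
  -- `K` is perfect
  have hKK : ⁅K, K⁆ = K := by
    have hle : ⁅K, K⁆ ≤ K := Subgroup.commutator_le_left K K
    by_cases h0 : ⁅K, K⁆ = ⊥
    · exfalso
      haveI : Group.IsSolvable K := Group.isSolvable_of_comm (by
        intro x y
        have h1 : (x : G) * y * (x : G)⁻¹ * (y : G)⁻¹ ∈ (⊥ : Subgroup G) := by
          rw [← h0]
          exact Subgroup.commutator_mem_commutator x.2 y.2
        rw [Subgroup.mem_bot] at h1
        apply Subtype.ext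
        have h2 : (x : G) * y = ((x : G) * y * (x : G)⁻¹ * (y : G)⁻¹) * ((y : G) * x) := by group
        change (x : G) * y = y * x
        rw [h2, h1, one_mul])
      haveI := hq K hK0
      apply hns
      exact Group.isSolvable_of_ker_le_range K.subtype (QuotientGroup.mk' K) (by
        rw [QuotientGroup.ker_mk']
        intro x hx
        exact ⟨⟨x, hx⟩, rfl⟩)
    · have hnorm : (⁅K, K⁆).Normal := Subgroup.commutator_normal K K
      exact le_antisymm hle (hmin _ hnorm h0)
  have hperf := hom_eq_one_of_perfect K hKK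
  letI : Fintype K := Fintype.ofFinite K
  -- faithful characters
  have hfaith := fun {χ : G → ℂ} (hχ : IsIrrCharacter G χ) (hne : ∃ x ∈ K, χ x ≠ χ 1) =>
    mul_conj_faithful K hKK hmin hχ hne
  -- a faithful character
  obtain ⟨x₀, hx₀K, hx₀⟩ : ∃ x ∈ K, x ≠ 1 := by
    obtain ⟨x, hx⟩ := Subgroup.ne_bot_iff_exists_ne_one.mp hK0
    exact ⟨x, x.2, fun h => hx (Subtype.ext h)⟩
  obtain ⟨χ₀, hχ₀⟩ : ∃ χ : IrrCharacter G, (χ : G → ℂ) x₀ ≠ (χ : G → ℂ) 1 := by
    by_contra hcon
    push Not at hcon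
    exact hx₀ (eq_one_of_forall_irr hcon)
  set d := charDegree (χ₀ : G → ℂ) with hd
  -- linear characters are not faithful
  have hlin : ∀ χ : IrrCharacter G, (∃ x ∈ K, (χ : G → ℂ) x ≠ (χ : G → ℂ) 1) → charDegree (χ : G → ℂ) ≠ 1 := by
    rintro χ ⟨x, hx, hxne⟩ h1
    have hc := isCharacter_of_isIrrCharacter χ.2
    have h2 : (χ : G → ℂ) 1 = 1 := by rw [← hdeg1, h1]; simp
    let lam := Cfsg.Agent.Lib.CharDeep.LinearChar.toHom hc h2
    have h3 := hperf (lam.comp K.subtype)
    have h4 : (lam.comp K.subtype) ⟨x, hx⟩ = 1 := by rw [h3]; rfl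
    apply hxne
    have h5 : ((lam x : ℂˣ) : ℂ) = (χ : G → ℂ) x := rfl
    have h6 : lam x = 1 := h4
    rw [← h5, h6, h2]
    rfl
  have hunif : ∀ χ : IrrCharacter G, (∃ x ∈ K, (χ : G → ℂ) x ≠ (χ : G → ℂ) 1) → charDegree (χ : G → ℂ) = d := by
    intro χ hχ
    by_contra hne
    have h1 := hlin χ hχ
    have h2 := hlin χ₀ ⟨x₀, hx₀K, hχ₀⟩
    have hfχ := hfaith χ.2 hχ
    have hfχ₀ := hfaith χ₀.2 ⟨x₀, hx₀K, hχ₀⟩
    have hχc1 := hdeg1 χ
    have hχ₀c1 := hdeg1 χ₀
    rcases hall χ with h3 | h3 | h3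
    · exact h1 h3
    · rw [h3] at hχc1
      rcases hall χ₀ with h4 | h4 | h4
      · exact h2 h4
      · exact hne (h3.trans h4.symm)
      · rw [h4] at hχ₀c1
        exact Dich.false_of_faithful ha2 hb2 hcop hcd χ.2 χ₀.2 hχc1.symm hχ₀c1.symm hfχ hfχ₀
    · rw [h3] at hχc1
      rcases hall χ₀ with h4 | h4 | h4
      · exact h2 h4
      · rw [h4] at hχ₀c1
        exact Dich.false_of_faithful ha2 hb2 hcop hcd χ₀.2 χ.2 hχ₀c1.symm hχc1.symm hfχ₀ hfχ
      · exact hne (h3.trans h4.symm)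
  -- a constituent on `K`
  have hres := isCharacter_restrict K (isCharacter_of_isIrrCharacter χ₀.2)
  have hresne : (fun k : K => (χ₀ : G → ℂ) k) ≠ 0 := by
    intro h0
    have := congrFun h0 1
    exact irr_one_ne_zero χ₀.2 (by simpa using this)
  obtain ⟨θ, hθ, hcon⟩ := exists_irr_constituent (isClassFunction_of_isCharacter hres) hresne
  have hθc := isCharacter_of_isIrrCharacter hθ
  have hθ1 : charDegree θ ≠ 1 := by
    intro h1
    have h2 : θ 1 = 1 := by rw [← charDegree_natCast hθc, h1]; simp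
    let lam := Cfsg.Agent.Lib.CharDeep.LinearChar.toHom hθc h2
    have h3 : θ = fun _ => 1 := by
      funext k
      have h4 : lam k = 1 := by rw [hperf lam]; rfl
      have h5 : ((lam k : ℂˣ) : ℂ) = θ k := rfl
      rw [← h5, h4]
      rfl
    apply hχ₀
    have h6 := Cfsg.Agent.Lib.Char.DegDvd.apply_eq_one_of_constituent_one hKn χ₀.2 (n := ⟨x₀, hx₀K⟩) (by
      rw [classInner_indFun_left K _ _ (isClassFunction_of_isIrrCharacter χ₀.2)]
      rw [h3] at hcon
      exact classInner_ne_zero_comm hcon)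
    exact h6
  have hp := Nat.minFac_prime hθ1
  haveI hfp : Fact (charDegree θ).minFac.Prime := ⟨hp⟩
  have hpθ := Nat.minFac_dvd (charDegree θ)
  obtain ⟨e, t, het, -⟩ := Cfsg.Agent.Lib.Char.DegDvd.dvd_index_of_constituent hKn hθ χ₀.2 hcon
  have hθd : charDegree θ ∣ d := by
    refine ⟨e * t, ?_⟩
    have h1 : (d : ℂ) = ((charDegree θ * (e * t) : ℕ) : ℂ) := by
      rw [hd, hdeg1, het]
      push_cast
      rw [charDegree_natCast hθc]
      ring
    exact_mod_cast h1
  have hL := Cfsg.Agent.Lib.CharDeg.ThreeDeg.Perfect.not_dvd_card K hperf (p := (charDegree θ).minFac) (by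
    intro χ hχ
    rw [hunif χ hχ]
    exact hpθ.trans hθd)
  exact hL (hpθ.trans (charDegree_dvd_card hθ))

end Cfsg.Agent.Lib.CharDeg.ThreeDeg.Solv
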