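import Cfsg.Agent.Lib.CharDeg.ThreeDeg.Cases
import Cfsg.Agent.Lib.CharDeg.ThreeDeg.Solv
import Cfsg.Agent.S4456
import Cfsg.Agent.S4458
import Cfsg.Agent.Lib.KerFit.Main
import Cfsg.Agent.Lib.Char.TaketaCard
import Cfsg.Agent.Lib.Char.Monomial
import Cfsg.Agent.Lib.Components.Basic
import Mathlib

/-!
# Three character degrees: derived length at most three
-/

set_option autoImplicit false
set_option linter.unusedSectionVars false

namespace Cfsg.Agent.Lib.CharDeg.ThreeDeg.Derived

open Cfsg Module
open Cfsg.Agent.Lib.Char.Basic Cfsg.Agent.Lib.Char.Ortho Cfsg.Agent.Lib.Char.Complete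
open Cfsg.Agent.Lib.Char.Degree Cfsg.Agent.Lib.Char.Clifford Cfsg.Agent.Lib.Char.Induced
open Cfsg.Agent.Lib.Char.Linear
open Cfsg.Agent.Lib.CharDeg.ThreeDeg.Perfect Cfsg.Agent.Lib.CharDeg.ThreeDeg.Uniform
open Cfsg.Agent.Lib.CharDeg.ThreeDeg.Lift Cfsg.Agent.Lib.CharDeg.ThreeDeg.Sec
open Cfsg.Agent.Lib.CharDeg.ThreeDeg.Cases Cfsg.Agent.Lib.CharDeg.ThreeDeg.Solv
open Cfsg.Agent.Lib.Core.Basic

universe u

/-- If there is only one nonlinear degree, the derived length is at most `2`. -/
theorem derived_two {X : Type u} [Group X] [Fintype X] {m : ℕ}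
    (hcd : ∀ χ : IrrCharacter X, charDegree (χ : X → ℂ) = 1 ∨ charDegree (χ : X → ℂ) = m) :
    derivedSeries X 2 = ⊥ := by
  classical
  have hc : ∀ a ∈ commutator X, ∀ b ∈ commutator X, a * b = b * a := by
    by_cases hm : (∃ χ : IrrCharacter X, charDegree (χ : X → ℂ) = m) ∧ m ≠ 1
    · exact Cfsg.Agent.S4458.result m hcd hm.1 hm.2
    · have hall : ∀ a b : X, a * b = b * a := by
        rw [comm_iff_all_deg_one]
        intro χ
        have h1 : charDegree (χ : X → ℂ) = 1 := by
          rcases hcd χ with h1 | h1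
          · exact h1
          · by_contra h2
            apply hm
            refine ⟨⟨χ, h1⟩, ?_⟩
            rintro rfl
            exact h2 h1
        rw [← charDegree_natCast (isCharacter_of_isIrrCharacter χ.2), h1]
        simp
      exact fun a _ b _ => hall a b
  rw [derivedSeries_succ, derivedSeries_one, eq_bot_iff, Subgroup.commutator_le]
  intro a ha b hb
  rw [Subgroup.mem_bot, commutatorElement_eq_one_iff_mul_comm]
  exact hc a ha b hb

/-- Extracting the set of degrees. -/
theorem exists_degrees {G : Type u} [Group G] [Fintype G] (h : Hyp3 G) :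
    (∃ m, ∀ χ : IrrCharacter G, charDegree (χ : G → ℂ) = 1 ∨ charDegree (χ : G → ℂ) = m) ∨
    ∃ a b : ℕ, 1 < a ∧ a < b ∧
      (∀ χ : IrrCharacter G, charDegree (χ : G → ℂ) = 1 ∨ charDegree (χ : G → ℂ) = a ∨
        charDegree (χ : G → ℂ) = b) ∧
      (∃ χ : IrrCharacter G, charDegree (χ : G → ℂ) = a) ∧
      (∃ χ : IrrCharacter G, charDegree (χ : G → ℂ) = b) := by
  classical
  obtain ⟨D, hD, hmem⟩ := h
  let S : Finset ℕ := D.filter (fun d => d ≠ 1 ∧ ∃ χ : IrrCharacter G, charDegree (χ : G → ℂ) = d)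
  have hone : (1 : ℕ) ∈ D := by
    have h1 := hmem ⟨fun _ => 1, Cfsg.Agent.Lib.Char.Burnside.isIrrCharacter_one⟩
    have h2 : charDegree (fun _ : G => (1 : ℂ)) = 1 := by simp [charDegree]
    simp only at h1
    rwa [h2] at h1
  have hS : S ⊆ D.erase 1 := by
    intro d hd
    rw [Finset.mem_filter] at hd
    exact Finset.mem_erase.mpr ⟨hd.2.1, hd.1⟩
  have hcard : S.card ≤ 2 := by
    have h1 := Finset.card_le_card hS
    rw [Finset.card_erase_of_mem hone] at h1
    omega
  have hSmem : ∀ χ : IrrCharacter G, charDegree (χ : G → ℂ) ≠ 1 → charDegree (χ : G → ℂ) ∈ S := by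
    intro χ hχ
    exact Finset.mem_filter.mpr ⟨hmem χ, hχ, χ, rfl⟩
  have hSspec : ∀ d ∈ S, 1 < d ∧ ∃ χ : IrrCharacter G, charDegree (χ : G → ℂ) = d := by
    intro d hd
    rw [Finset.mem_filter] at hd
    obtain ⟨-, hd1, χ, rfl⟩ := hd
    refine ⟨?_, χ, rfl⟩
    have := charDegree_pos χ.2
    omega
  interval_cases hc : S.card
  · left
    refine ⟨1, fun χ => Or.inl ?_⟩
    by_contra h1
    have h2 := hSmem χ h1
    rw [Finset.card_eq_zero] at hc
    rw [hc] at h2
    simp at h2
  · left
    obtain ⟨m, hm⟩ := Finset.card_eq_one.mp hc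
    refine ⟨m, fun χ => ?_⟩
    by_cases h1 : charDegree (χ : G → ℂ) = 1
    · exact Or.inl h1
    · right
      have h2 := hSmem χ h1
      rw [hm] at h2
      exact Finset.mem_singleton.mp h2
  · right
    obtain ⟨x, y, hxy, hSxy⟩ := Finset.card_eq_two.mp hc
    have hx := hSspec x (by rw [hSxy]; simp)
    have hy := hSspec y (by rw [hSxy]; simp)
    have hall : ∀ χ : IrrCharacter G, charDegree (χ : G → ℂ) = 1 ∨ charDegree (χ : G → ℂ) = x ∨
        charDegree (χ : G → ℂ) = y := by
      intro χ
      by_cases h1 : charDegree (χ : G → ℂ) = 1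
      · exact Or.inl h1
      · right
        have h2 := hSmem χ h1
        rw [hSxy] at h2
        simpa using h2
    rcases lt_or_gt_of_ne hxy with hlt | hlt
    · exact ⟨x, y, hx.1, hlt, hall, hx.2, hy.2⟩
    · refine ⟨y, x, hy.1, hlt, ?_, hy.2, hx.2⟩
      intro χ
      rcases hall χ with h1 | h1 | h1
      · exact Or.inl h1
      · exact Or.inr (Or.inr h1)
      · exact Or.inr (Or.inl h1)

variable {G : Type u} [Group G] [Fintype G]

/-- Characters not containing `F'` in their kernel have degree divisible by `p`. -/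
theorem dvd_of_ne_on_commutator {p : ℕ} [hp : Fact p.Prime] (F : Subgroup G) [hF : F.Normal]
    (hFp : IsPGroup p F) {χ : G → ℂ} (hχ : IsIrrCharacter G χ) {x : G} (hx : x ∈ ⁅F, F⁆)
    (hne : χ x ≠ χ 1) : p ∣ charDegree χ := by
  classical
  have hpp : p.Prime := hp.out
  by_contra hnd
  letI : Fintype F := Fintype.ofFinite _
  letI : Fintype (⁅F, F⁆ : Subgroup G) := Fintype.ofFinite _
  have hχc := isCharacter_of_isIrrCharacter hχ
  obtain ⟨ω, hω, hωc, hωd⟩ := exists_constituent_not_dvd (isCharacter_restrict F hχc)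
    (n := charDegree χ) (q := p) (by simpa using (charDegree_natCast hχc).symm) hnd
  obtain ⟨k, hk⟩ := IsPGroup.iff_card.mp hFp
  have hdvd := charDegree_dvd_card hω
  rw [hk] at hdvd
  obtain ⟨i, -, hi⟩ := (Nat.dvd_prime_pow hpp).mp hdvd
  have hi0 : i = 0 := by
    by_contra h0
    apply hωd
    rw [hi]
    exact dvd_pow_self p h0
  have hω1 : ω 1 = 1 := by
    rw [← charDegree_natCast (isCharacter_of_isIrrCharacter hω), hi, hi0]
    simp
  have htriv : ∀ y : F, (y : G) ∈ ⁅F, F⁆ → ω y = ω 1 := by
    intro y hy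
    have h2 : (commutator F).map F.subtype = ⁅F, F⁆ := Subgroup.map_subtype_commutator F
    rw [← h2] at hy
    obtain ⟨w, hw, hwy⟩ := hy
    have h3 : w = y := Subtype.ext hwy
    rw [← h3, hω1]
    exact linear_eq_one_of_mem_commutator (isCharacter_of_isIrrCharacter hω) hω1 hw
  exact hne (ker_of_sub_constituent (Subgroup.commutator_le_left F F) (Subgroup.commutator_normal F F) hχ hω hωc htriv x hx)

/-- The inductive step. -/
theorem main_step (h : Hyp3 G)
    (hind : ∀ N : Subgroup G, N.Normal → N ≠ ⊥ → derivedSeries G 3 ≤ N) : derivedSeries G 3 = ⊥ := by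
  classical
  by_contra hV
  have hsolv := isSolvable_of_hyp3 h
  rcases exists_degrees h with ⟨m, hm⟩ | ⟨a, b, ha1, hab, hdeg, ⟨χa, hχa⟩, ⟨χb, hχb⟩⟩
  · apply hV
    have h2 := derived_two hm
    rw [eq_bot_iff, ← h2]
    exact derivedSeries_antitone G (by norm_num)
  set V := derivedSeries G 3 with hVdef
  have hcardV : Nat.card V ≠ 1 := fun h1 => hV (Subgroup.eq_bot_of_card_eq _ h1)
  set p := (Nat.card V).minFac with hpdef
  have hpp : p.Prime := Nat.minFac_prime hcardV
  haveI hpf : Fact p.Prime := ⟨hpp⟩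
  have hpV : p ∣ Nat.card V := Nat.minFac_dvd _
  have hcore : ∀ q : Nat.Primes, (q : ℕ) ≠ p → pCore (q : ℕ) G = ⊥ := by
    intro q hq
    by_contra hne
    haveI : Fact (q : ℕ).Prime := ⟨q.2⟩
    have h1 := hind _ (pCore_normal q G) hne
    have h3 : IsPGroup (q : ℕ) V := (pCore_isPGroup (p := (q : ℕ)) (G := G)).to_le h1
    obtain ⟨k, hk⟩ := IsPGroup.iff_card.mp h3
    rw [hk] at hpV
    exact hq ((Nat.prime_dvd_prime_iff_eq hpp q.2).mp (hpp.dvd_of_dvd_pow hpV)).symm
  let F := fittingSubgroup G
  haveI hFn : F.Normal := Cfsg.Agent.Lib.Components.Basic.fittingSubgroup_normal'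
  have hFp : IsPGroup p F := by
    have hle : F ≤ pCore p G := by
      change fittingSubgroup G ≤ _
      rw [fittingSubgroup_eq_iSup_pCore]
      refine iSup_le fun q => ?_
      by_cases hq : (q : ℕ) = p
      · rw [hq]
      · rw [hcore q hq]
        exact bot_le
    exact (pCore_isPGroup (p := p) (G := G)).to_le hle
  have hmax : ∀ M : Subgroup G, M.Normal → IsPGroup p M → M ≤ F :=
    fun M hM hMp => le_fittingSubgroup hM hMp.isNilpotent
  have hOp := hOp_quotient hFp hmax
  letI : Fintype (G ⧸ F) := Fintype.ofFinite _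
  -- the degrees of the quotient
  have hQcd : ∀ χ : IrrCharacter (G ⧸ F), charDegree (χ : G ⧸ F → ℂ) = 1 ∨ charDegree (χ : G ⧸ F → ℂ) = a := by
    intro φ
    have hir := Cfsg.Agent.Lib.Char.Linear.isIrrCharacter_comp (QuotientGroup.mk' F)
      (QuotientGroup.mk'_surjective F) φ.2
    have hd := charDegree_comp_mk F (φ : G ⧸ F → ℂ)
    rcases hdeg ⟨_, hir⟩ with h1 | h1 | h1
    · left
      rw [← hd]
      exact h1
    · right
      rw [← hd]
      exact h1
    · exfalso
      simp only at h1
      have hχc := isCharacter_of_isIrrCharacter hir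
      have hFK : F ≤ charKer hχc := by
        intro x hx
        change ((φ : G ⧸ F → ℂ) ∘ QuotientGroup.mk' F) x = ((φ : G ⧸ F → ℂ) ∘ QuotientGroup.mk' F) 1
        have h2 : QuotientGroup.mk' F x = 1 := by
          rw [QuotientGroup.mk'_apply, QuotientGroup.eq_one_iff]
          exact hx
        simp only [Function.comp_apply, h2, map_one]
      have hcase : ¬ charKer hχc ≤ fittingSubgroup G ∨
          (charKer hχc = fittingSubgroup G ∧ Group.IsSolvable (G ⧸ charKer hχc) ∧ charKer hχc ≠ ⊤) := by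
        by_cases hle : charKer hχc ≤ fittingSubgroup G
        · right
          have heq : charKer hχc = fittingSubgroup G := le_antisymm hle hFK
          refine ⟨heq, inferInstance, ?_⟩
          intro htop
          have hFtop : F = ⊤ := heq.symm.trans htop
          have hcm : ∀ u v : G ⧸ F, u * v = v * u := by
            intro u v
            obtain ⟨u, rfl⟩ := QuotientGroup.mk'_surjective F u
            obtain ⟨v, rfl⟩ := QuotientGroup.mk'_surjective F v
            have hu : QuotientGroup.mk' F u = 1 := by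
              rw [QuotientGroup.mk'_apply, QuotientGroup.eq_one_iff, hFtop]
              exact Subgroup.mem_top u
            rw [hu, one_mul, mul_one]
          have h3 := isIrr_deg_one_of_comm hcm φ.2
          have h4 := charDegree_natCast (isCharacter_of_isIrrCharacter φ.2)
          rw [h3, ← hd, h1] at h4
          have h5 : b = 1 := by exact_mod_cast h4
          omega
        · exact Or.inl hle
      obtain ⟨ψ, hψ, -⟩ := Cfsg.Agent.Lib.KerFit.Main.exists_larger_degree_smaller_kernel ⟨_, hir⟩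
        (charKer hχc) (fun g => Iff.rfl) hcase
      simp only at hψ
      rw [h1] at hψ
      rcases hdeg ψ with h2 | h2 | h2 <;> omega
  have hQ2 := derived_two hQcd
  have hYF : derivedSeries G 2 ≤ F := by
    have h1 := map_derivedSeries_eq (QuotientGroup.mk'_surjective F) 2
    rw [hQ2] at h1
    intro x hx
    have h2 : QuotientGroup.mk' F x ∈ (derivedSeries G 2).map (QuotientGroup.mk' F) := ⟨x, hx, rfl⟩
    rw [h1, Subgroup.mem_bot, QuotientGroup.mk'_apply, QuotientGroup.eq_one_iff] at h2
    exact h2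
  set Y := derivedSeries G 2 with hYdef
  let R : Subgroup G := ⁅F, F⁆
  haveI hRn : R.Normal := Subgroup.commutator_normal F F
  have hRp : IsPGroup p R := hFp.to_le (Subgroup.commutator_le_left F F)
  have hVY : V = ⁅Y, Y⁆ := rfl
  have hVR : V ≤ R := by
    rw [hVY]
    exact Subgroup.commutator_mono hYF hYF
  have hRne : R ≠ ⊥ := by
    intro h0
    rw [h0] at hVR
    exact hV (le_bot_iff.mp hVR)
  have hRdvd : ∀ χ : IrrCharacter G, (∃ x ∈ R, (χ : G → ℂ) x ≠ (χ : G → ℂ) 1) → p ∣ charDegree (χ : G → ℂ) := by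
    rintro χ ⟨x, hx, hne⟩
    exact dvd_of_ne_on_commutator F hFp χ.2 hx hne
  obtain ⟨x₀, hx₀, hx₀1⟩ : ∃ x ∈ R, x ≠ 1 := by
    rcases Subgroup.bot_or_exists_ne_one R with h0 | h0
    · exact absurd h0 hRne
    · exact h0
  obtain ⟨χ₀, hχ₀⟩ : ∃ χ : IrrCharacter G, (χ : G → ℂ) x₀ ≠ (χ : G → ℂ) 1 := by
    by_contra hcon
    push Not at hcon
    exact hx₀1 (eq_one_of_forall_irr hcon)
  have hpχ₀ := hRdvd χ₀ ⟨x₀, hx₀, hχ₀⟩
  -- `p` divides exactly one of `a`, `b`
  have hor : p ∣ a ∨ p ∣ b := by
    rcases hdeg χ₀ with h1 | h1 | h1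
    · exfalso
      rw [h1] at hpχ₀
      exact hpp.one_lt.ne' (Nat.dvd_one.mp hpχ₀)
    · rw [h1] at hpχ₀
      exact Or.inl hpχ₀
    · rw [h1] at hpχ₀
      exact Or.inr hpχ₀
  have hnotboth : ¬ (p ∣ a ∧ p ∣ b) := by
    rintro ⟨h1, h2⟩
    obtain ⟨N, hNn, hNc, k, hk⟩ := Cfsg.Agent.S4456.result p hpp (by
      intro χ hχ
      rcases hdeg χ with h3 | h3 | h3
      · exact absurd h3 hχ
      · rw [h3]
        exact h1
      · rw [h3]
        exact h2)
    by_cases hN : N = ⊥
    · subst hN
      rw [Subgroup.index_bot] at hk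
      have hGp : IsPGroup p G := IsPGroup.of_card hk
      haveI : Group.IsNilpotent G := hGp.isNilpotent
      have hbot := Cfsg.Agent.Lib.Char.TaketaCard.derivedSeries_card_eq_bot (G := G)
        (fun χ hχ => Cfsg.Agent.Lib.Char.Monomial.monomial_of_nilpotent χ hχ) {1, a, b} (by
          intro χ hχ d hd
          have h8 := charDegree_natCast (isCharacter_of_isIrrCharacter hχ)
          have h9 : charDegree χ = d := by
            rw [hd] at h8
            exact_mod_cast h8
          rcases hdeg ⟨χ, hχ⟩ with h7 | h7 | h7 <;> simp only at h7 <;> simp [← h9, h7])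
      have hcard3 : ({1, a, b} : Finset ℕ).card = 3 := by
        rw [Finset.card_eq_three]
        exact ⟨1, a, b, by omega, by omega, by omega, rfl⟩
      rw [hcard3] at hbot
      exact hV hbot
    · have h3 := hind N hNn hN
      have h4 : p ∣ Nat.card N := hpV.trans (Subgroup.card_dvd_of_le h3)
      rw [Nat.coprime_comm, Nat.Prime.coprime_iff_not_dvd hpp] at hNc
      exact hNc h4
  -- the uniform degree
  have hYR_of_ab : (∀ u v : G ⧸ F, u * v = v * u) → Y ≤ R := by
    intro hQab
    have hGF : commutator G ≤ F := by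
      rw [commutator_def, Subgroup.commutator_le]
      intro u _ v _
      rw [← QuotientGroup.eq_one_iff]
      change ((u * v * u⁻¹ * v⁻¹ : G) : G ⧸ F) = 1
      have h2 : ((u * v * u⁻¹ * v⁻¹ : G) : G ⧸ F) = (u : G ⧸ F) * v * (u : G ⧸ F)⁻¹ * (v : G ⧸ F)⁻¹ := rfl
      rw [h2, hQab u v]
      group
    exact Subgroup.commutator_mono hGF hGF
  have hna_deg : ¬ (∀ u v : G ⧸ F, u * v = v * u) →
      ∃ χ : IrrCharacter (G ⧸ F), charDegree (χ : G ⧸ F → ℂ) = a := by
    intro hQab
    rw [comm_iff_all_deg_one] at hQab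
    push Not at hQab
    obtain ⟨χ, hχ⟩ := hQab
    refine ⟨χ, ?_⟩
    rcases hQcd χ with h1 | h1
    · exfalso
      apply hχ
      rw [← charDegree_natCast (isCharacter_of_isIrrCharacter χ.2), h1]
      simp
    · exact h1
  have hfinish : (∀ u ∈ R, ∀ v ∈ R, u * v = v * u) → Y ≤ R → False := by
    intro hRab hYR
    have h1 : V ≤ ⁅R, R⁆ := Subgroup.commutator_mono hYR hYR
    have h2 : ⁅R, R⁆ = ⊥ := by
      rw [eq_bot_iff, Subgroup.commutator_le]
      intro u hu v hv
      rw [Subgroup.mem_bot, commutatorElement_eq_one_iff_mul_comm]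
      exact hRab u hu v hv
    rw [h2] at h1
    exact hV (le_bot_iff.mp h1)
  rcases hor with hpa | hpb
  · -- `p ∣ a`, `p ∤ b`
    have hpb : ¬ p ∣ b := fun h1 => hnotboth ⟨hpa, h1⟩
    have hdeg' : ∀ χ : IrrCharacter G, p ∣ charDegree (χ : G → ℂ) → charDegree (χ : G → ℂ) = a := by
      intro χ hχ
      rcases hdeg χ with h1 | h1 | h1
      · exfalso
        rw [h1] at hχ
        exact hpp.one_lt.ne' (Nat.dvd_one.mp hχ)
      · exact h1
      · exfalso
        rw [h1] at hχ
        exact hpb hχ
    have hRab := abelian_of_uniform R hRp (d := a) (fun χ hχ => hdeg' χ (hRdvd χ hχ))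
    by_cases hQab : ∀ u v : G ⧸ F, u * v = v * u
    · exact hfinish hRab (hYR_of_ab hQab)
    · obtain ⟨φ, hφ⟩ := hna_deg hQab
      have hφ1 : (φ : G ⧸ F → ℂ) 1 = a := by
        rw [← charDegree_natCast (isCharacter_of_isIrrCharacter φ.2), hφ]
      have hcn : commutator (G ⧸ F) ≠ ⊥ := by
        intro h0
        apply hQab
        intro u v
        have h1 : u * v * u⁻¹ * v⁻¹ ∈ commutator (G ⧸ F) :=
          Subgroup.commutator_mem_commutator (Subgroup.mem_top u) (Subgroup.mem_top v)
        rw [h0, Subgroup.mem_bot] at h1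
        have h3 : u * v = (u * v * u⁻¹ * v⁻¹) * (v * u) := by group
        rw [h3, h1, one_mul]
      have ha1' : a ≠ 1 := by omega
      have hFab : ∀ x ∈ F, ∀ y ∈ F, x * y = y * x := by
        rcases Cfsg.Agent.Lib.Char.TwoDeg.Main.main hQcd ⟨φ, hφ⟩ ha1' with
          ⟨A, hAn, hAc, hAi, hAcomm⟩ | ⟨r, e, hr, hae, P, A, hPn, hAn, hPp, hAc, hPA, hPAt, -⟩
        · have hAp := not_dvd_card_of_abelian hOp A hAn hAc
          exact abelian_of_cyclic_sections F hFp
            (fun M hM => isCyclic_of_pGroup hQcd ha1' A hAn hAc hAi hAcomm hAp hcn M hM) hdeg' φ.2 hφ1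
        · exfalso
          have hpr : p = r := by
            rw [hae] at hpa
            exact (Nat.prime_dvd_prime_iff_eq hpp hr).mp (hpp.dvd_of_dvd_pow hpa)
          subst hpr
          have hP0 := hOp P hPn hPp
          rw [hP0, bot_sup_eq] at hPAt
          apply hQab
          intro u v
          exact hAc u (hPAt ▸ Subgroup.mem_top u) v (hPAt ▸ Subgroup.mem_top v)
      have hR0 : R = ⊥ := by
        rw [eq_bot_iff, Subgroup.commutator_le]
        intro u hu v hv
        rw [Subgroup.mem_bot, commutatorElement_eq_one_iff_mul_comm]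
        exact hFab u hu v hv
      exact hRne hR0
  · -- `p ∣ b`, `p ∤ a`
    have hpa : ¬ p ∣ a := fun h1 => hnotboth ⟨h1, hpb⟩
    have hdeg' : ∀ χ : IrrCharacter G, p ∣ charDegree (χ : G → ℂ) → charDegree (χ : G → ℂ) = b := by
      intro χ hχ
      rcases hdeg χ with h1 | h1 | h1
      · exfalso
        rw [h1] at hχ
        exact hpp.one_lt.ne' (Nat.dvd_one.mp hχ)
      · exfalso
        rw [h1] at hχ
        exact hpa hχ
      · exact h1
    have hdeg'' : ∀ χ : IrrCharacter G, ¬ p ∣ charDegree (χ : G → ℂ) →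
        charDegree (χ : G → ℂ) = 1 ∨ charDegree (χ : G → ℂ) = a := by
      intro χ hχ
      rcases hdeg χ with h1 | h1 | h1
      · exact Or.inl h1
      · exact Or.inr h1
      · exfalso
        rw [h1] at hχ
        exact hχ hpb
    have hRab := abelian_of_uniform R hRp (d := b) (fun χ hχ => hdeg' χ (hRdvd χ hχ))
    by_cases hQab : ∀ u v : G ⧸ F, u * v = v * u
    · exact hfinish hRab (hYR_of_ab hQab)
    · obtain ⟨φ, hφ⟩ := hna_deg hQab
      have ha1' : a ≠ 1 := by omega
      have hcop : ¬ p ∣ F.index := by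
        intro hd
        rw [Subgroup.index_eq_card] at hd
        have hmulcard : ∀ A : Subgroup (G ⧸ F), Nat.card A * A.index = Nat.card (G ⧸ F) :=
          fun A => Subgroup.card_mul_index A
        rcases Cfsg.Agent.Lib.Char.TwoDeg.Main.main hQcd ⟨φ, hφ⟩ ha1' with
          ⟨A, hAn, hAc, hAi, hAcomm⟩ | ⟨r, e, hr, hae, P, A, hPn, hAn, hPp, hAc, hPA, hPAt, -⟩
        · have hAp := not_dvd_card_of_abelian hOp A hAn hAc
          rw [← hmulcard A, hAi] at hd
          rcases hpp.dvd_mul.mp hd with h1 | h1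
          · exact hAp h1
          · exact hpa h1
        · have hAp := not_dvd_card_of_abelian hOp A hAn hAc
          rw [← hmulcard A] at hd
          rcases hpp.dvd_mul.mp hd with h1 | h1
          · exact hAp h1
          · have h2 : A.index = A.relIndex P := by
              have h3 := Subgroup.relIndex_sup_left P A
              rw [sup_comm, hPAt, Subgroup.relIndex_top_right] at h3
              exact h3
            have h3 : A.relIndex P ∣ Nat.card P := Subgroup.relIndex_dvd_card _ _
            rw [h2] at h1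
            haveI : Fact r.Prime := ⟨hr⟩
            obtain ⟨k, hk⟩ := IsPGroup.iff_card.mp hPp
            rw [hk] at h3
            have h4 : p ∣ r ^ k := h1.trans h3
            have h5 : p = r := (Nat.prime_dvd_prime_iff_eq hpp hr).mp (hpp.dvd_of_dvd_pow h4)
            subst h5
            have he : e ≠ 0 := by
              rintro rfl
              simp at hae
              omega
            apply hpa
            rw [hae]
            exact dvd_pow_self p he
      apply hfinish hRab
      change ⁅derivedSeries G 1, derivedSeries G 1⁆ ≤ R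
      rw [Subgroup.commutator_le]
      intro x hx y hy
      have hx' : x ∈ commutator G := hx
      have hy' : y ∈ commutator G := hy
      have hc : x * y * x⁻¹ * y⁻¹ ∈ F := hYF (Subgroup.commutator_mem_commutator hx hy)
      exact commutator_mem_of_coprime F hFp hcop ha1' hQcd hdeg'' hx' hy' hc

/-- **Isaacs 12.15**: three character degrees imply derived length at most three. -/
theorem derived_of_hyp3 {G : Type u} [Group G] [Fintype G] (h : Hyp3 G) : derivedSeries G 3 = ⊥ := by
  classical
  induction' hn : Nat.card G using Nat.strong_induction_on with n ih generalizing G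
  subst hn
  apply main_step h
  intro N hN hNe
  haveI := hN
  letI : Fintype (G ⧸ N) := Fintype.ofFinite _
  have hlt : Nat.card (G ⧸ N) < Nat.card G := by
    have h1 := Subgroup.card_mul_index N
    rw [Subgroup.index_eq_card] at h1
    have h2 : 1 < Nat.card N := by
      have h3 : Nat.card N ≠ 1 := fun h4 => hNe (Subgroup.eq_bot_of_card_eq _ h4)
      have h5 : 0 < Nat.card N := Nat.card_pos
      omega
    have h6 : 0 < Nat.card (G ⧸ N) := Nat.card_pos
    nlinarith
  have h1 := ih _ hlt (h.quotient N) rfl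
  have h2 := map_derivedSeries_eq (QuotientGroup.mk'_surjective N) 3
  rw [h1] at h2
  intro x hx
  have h3 : QuotientGroup.mk' N x ∈ (derivedSeries G 3).map (QuotientGroup.mk' N) := ⟨x, hx, rfl⟩
  rw [h2, Subgroup.mem_bot, QuotientGroup.mk'_apply, QuotientGroup.eq_one_iff] at h3
  exact h3

end Cfsg.Agent.Lib.CharDeg.ThreeDeg.Derived
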