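import Cfsg.Agent.Lib.Char.Clifford
import Cfsg.Agent.Lib.Char.Degree
import Cfsg.Agent.Lib.Char.Linear
import Cfsg.Agent.Lib.Char.FrobSchur
import Cfsg.Agent.Lib.CharZeros.Gallagher
import Mathlib

/-!
# Products of characters of coprime degrees

If all degrees lie in `{1, u, v}` with `u, v` coprime, and `χ χ̄` is faithful of degree `u²`, then
for each `ψ` of degree `v`, all constituents of `χ ψ` have degree `u`.
-/

set_option autoImplicit false
set_option linter.unusedSectionVars false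

namespace Cfsg.Agent.Lib.CharDeg.ThreeDeg.Dich

open Cfsg Module Polynomial
open Cfsg.Agent.Lib.Char.Basic Cfsg.Agent.Lib.Char.Ortho Cfsg.Agent.Lib.Char.Complete
open Cfsg.Agent.Lib.Char.Degree Cfsg.Agent.Lib.Char.Clifford
open scoped ComplexConjugate

universe u

variable {G : Type u} [Group G] [Fintype G]

/-- Burnside--Brauer: the powers of a faithful function meet every function not vanishing at `1`. -/
theorem exists_pow_classInner_ne_zero {ω ν : G → ℂ} (hf : ∀ g, ω g = ω 1 → g = 1) (hν : ν 1 ≠ 0) :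
    ∃ m : ℕ, classInner (ω ^ m) ν ≠ 0 := by
  classical
  by_contra hall
  push Not at hall
  have hc : (Nat.card G : ℂ) ≠ 0 := by exact_mod_cast Nat.card_pos.ne'
  have h0 : ∀ m : ℕ, ∑ g : G, ω g ^ m * conj (ν g) = 0 := by
    intro m
    have h1 := hall m
    rw [classInner_def] at h1
    simpa [hc] using h1
  let S : Finset ℂ := (Finset.univ.image ω).erase (ω 1)
  let f : ℂ[X] := ∏ v ∈ S, (X - C v)
  have hsum : ∑ g : G, f.eval (ω g) * conj (ν g) = 0 := by
    simp_rw [Polynomial.eval_eq_sum_range, Finset.sum_mul]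
    rw [Finset.sum_comm]
    apply Finset.sum_eq_zero
    intro k _
    have h1 := h0 k
    calc ∑ g : G, f.coeff k * ω g ^ k * conj (ν g) = f.coeff k * ∑ g : G, ω g ^ k * conj (ν g) := by
          rw [Finset.mul_sum]
          refine Finset.sum_congr rfl fun g _ => ?_
          ring
      _ = 0 := by rw [h1, mul_zero]
  have hev : ∀ g : G, g ≠ 1 → f.eval (ω g) = 0 := by
    intro g hg
    simp only [f, Polynomial.eval_prod]
    apply Finset.prod_eq_zero (i := ω g)
    · simp only [S, Finset.mem_erase, Finset.mem_image, Finset.mem_univ, true_and]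
      exact ⟨fun h => hg (hf g h), g, rfl⟩
    · simp
  rw [Finset.sum_eq_single 1] at hsum
  · have h1 : f.eval (ω 1) ≠ 0 := by
      simp only [f, Polynomial.eval_prod]
      rw [Finset.prod_ne_zero_iff]
      intro v hv
      simp only [S, Finset.mem_erase] at hv
      simpa [sub_eq_zero] using hv.1.symm
    have h2 : conj (ν 1) ≠ 0 := by simpa using hν
    exact (mul_ne_zero h1 h2) hsum
  · intro g _ hg
    rw [hev g hg, zero_mul]
  · intro h
    exact absurd (Finset.mem_univ _) h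

/-- The adjoint property of multiplication. -/
theorem classInner_mul_left (χ a b : G → ℂ) :
    classInner (χ * a) b = classInner a ((fun g => conj (χ g)) * b) := by
  rw [classInner_def, classInner_def]
  congr 1
  refine Finset.sum_congr rfl fun g _ => ?_
  simp only [Pi.mul_apply, map_mul, Complex.conj_conj]
  ring

section Good

variable (𝒮 : (G → ℂ) → Prop)

/-- A function is good for `𝒮` if multiplication by it keeps `𝒮`, on the level of constituents. -/
def Good (Ψ : G → ℂ) : Prop :=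
  ∀ ψ, 𝒮 ψ → ∀ ω, IsIrrCharacter G ω → classInner (Ψ * ψ) ω ≠ 0 → 𝒮 ω

variable {𝒮}

theorem good_one (hS : ∀ ψ, 𝒮 ψ → IsIrrCharacter G ψ) : Good 𝒮 (1 : G → ℂ) := by
  intro ψ hψ ω hω hc
  rw [one_mul] at hc
  by_cases h : ψ = ω
  · rwa [← h]
  · exact absurd (classInner_eq_zero_of_isIrr_of_ne (hS ψ hψ) hω h) hc

theorem good_mul (hS : ∀ ψ, 𝒮 ψ → IsIrrCharacter G ψ) {Ψ Ψ' : G → ℂ} (hΨ' : IsCharacter G Ψ')
    (h : Good 𝒮 Ψ) (h' : Good 𝒮 Ψ') : Good 𝒮 (Ψ * Ψ') := by
  classical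
  have := finite_irrCharacter (G := G)
  letI := Fintype.ofFinite (IrrCharacter G)
  intro ψ hψ ω hω hc
  obtain ⟨m, hm⟩ := exists_nat_combination (isCharacter_mul hΨ' (isCharacter_of_isIrrCharacter (hS ψ hψ)))
  have h1 : Ψ * Ψ' * ψ = ∑ i, m i • (Ψ * (i : G → ℂ)) := by
    rw [mul_assoc, hm, Finset.mul_sum]
    refine Finset.sum_congr rfl fun i _ => ?_
    rw [mul_smul_comm]
  rw [h1, classInner_sum_left] at hc
  obtain ⟨i, -, hi⟩ := Finset.exists_ne_zero_of_sum_ne_zero hc
  rw [classInner_nsmul_left] at hi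
  have hmi : (m i : ℂ) ≠ 0 := left_ne_zero_of_mul hi
  have hci : classInner (Ψ * (i : G → ℂ)) ω ≠ 0 := right_ne_zero_of_mul hi
  have hSi : 𝒮 i := by
    apply h' ψ hψ i i.2
    rw [hm, classInner_of_nat_combination]
    exact hmi
  exact h i hSi ω hω hci

theorem good_of_constituent (hS : ∀ ψ, 𝒮 ψ → IsIrrCharacter G ψ) {Ψ ν : G → ℂ} (hΨ : IsCharacter G Ψ)
    (h : Good 𝒮 Ψ) (hν : IsIrrCharacter G ν) (hc : classInner Ψ ν ≠ 0) : Good 𝒮 ν := by
  classical
  have := finite_irrCharacter (G := G)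
  letI := Fintype.ofFinite (IrrCharacter G)
  intro ψ hψ ω hω hc'
  have hψc := isCharacter_of_isIrrCharacter (hS ψ hψ)
  have hωc := isCharacter_of_isIrrCharacter hω
  obtain ⟨m, hm⟩ := exists_nat_combination hΨ
  apply h ψ hψ ω hω
  have h1 : Ψ * ψ = ∑ i, m i • ((i : G → ℂ) * ψ) := by
    rw [hm, Finset.sum_mul]
    refine Finset.sum_congr rfl fun i _ => ?_
    rw [smul_mul_assoc]
  rw [h1, classInner_sum_left]
  have hn : ∀ i : IrrCharacter G, ∃ n : ℕ, classInner ((i : G → ℂ) * ψ) ω = n := fun i =>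
    exists_nat_classInner (isCharacter_mul (isCharacter_of_isIrrCharacter i.2) hψc) hωc
  choose n hn using hn
  have h2 : ∑ i, classInner (m i • ((i : G → ℂ) * ψ)) ω = ((∑ i, m i * n i : ℕ) : ℂ) := by
    push_cast
    refine Finset.sum_congr rfl fun i _ => ?_
    rw [classInner_nsmul_left, hn]
  rw [h2]
  -- the term at `ν`
  have hmν : m ⟨ν, hν⟩ ≠ 0 := by
    intro h0
    apply hc
    rw [hm]
    have := classInner_of_nat_combination m ⟨ν, hν⟩
    rw [this, h0]
    simp
  have hnν : n ⟨ν, hν⟩ ≠ 0 := by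
    intro h0
    apply hc'
    have := hn ⟨ν, hν⟩
    rw [h0] at this
    simpa using this
  have hpos : 0 < ∑ i, m i * n i :=
    Finset.sum_pos' (fun _ _ => Nat.zero_le _) ⟨⟨ν, hν⟩, Finset.mem_univ _, Nat.mul_pos (Nat.pos_of_ne_zero hmν) (Nat.pos_of_ne_zero hnν)⟩
  exact_mod_cast hpos.ne'

theorem good_pow (hS : ∀ ψ, 𝒮 ψ → IsIrrCharacter G ψ) {Ψ : G → ℂ} (hΨ : IsCharacter G Ψ) (h : Good 𝒮 Ψ)
    (m : ℕ) : Good 𝒮 (Ψ ^ m) ∧ IsCharacter G (Ψ ^ m) := by
  induction m with
  | zero =>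
    rw [pow_zero]
    exact ⟨good_one hS, isCharacter_one⟩
  | succ m ih =>
    rw [pow_succ]
    exact ⟨good_mul hS hΨ ih.1 h, isCharacter_mul ih.2 hΨ⟩

end Good

section Main

variable {a b : ℕ}

/-- The constituents of the product of an irreducible character `χ` with an irreducible character
of a different degree are not linear. -/
theorem not_linear {χ ψ ω : G → ℂ} (hχ : IsIrrCharacter G χ) (hψ : IsIrrCharacter G ψ)
    (hω : IsIrrCharacter G ω) (hab : a ≠ b) (hχ1 : χ 1 = a) (hψ1 : ψ 1 = b) (hω1 : ω 1 = 1) :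
    classInner (χ * ψ) ω = 0 := by
  have hχ' := Cfsg.Agent.Lib.Char.FrobSchur.isIrr_conj hχ
  have hprod := Cfsg.Agent.Lib.CharZeros.Gallagher.isIrrCharacter_mul_linear
    (isCharacter_of_isIrrCharacter hω) hω1 hχ'
  rw [classInner_mul_left]
  have h1 : (fun g => conj (χ g)) * ω = (fun g => ω g * conj (χ g)) := by
    funext g
    simp [mul_comm]
  rw [h1]
  apply classInner_eq_zero_of_isIrr_of_ne hψ hprod
  intro h2
  have h3 := congrFun h2 1
  simp only [hψ1, hω1, hχ1, one_mul, map_natCast] at h3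
  exact hab (by exact_mod_cast h3.symm)

/-- The degree as a natural number. -/
theorem deg_of_eq {χ : G → ℂ} {a : ℕ} (h : χ 1 = a) : charDegree χ = a :=
  charDegree_eq_of_eq_natCast h

/-- **The dichotomy**. -/
theorem dichotomy (ha : 2 ≤ a) (hb : 2 ≤ b) (hcop : Nat.Coprime a b)
    (hcd : ∀ ω : G → ℂ, IsIrrCharacter G ω → ω 1 = 1 ∨ ω 1 = a ∨ ω 1 = b) {χ ψ : G → ℂ}
    (hχ : IsIrrCharacter G χ) (hψ : IsIrrCharacter G ψ) (hχ1 : χ 1 = a) (hψ1 : ψ 1 = b) :
    (∀ ω, IsIrrCharacter G ω → classInner (χ * ψ) ω ≠ 0 → ω 1 = a) ∨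
    (∀ ω, IsIrrCharacter G ω → classInner (χ * ψ) ω ≠ 0 → ω 1 = b) := by
  classical
  have := finite_irrCharacter (G := G)
  letI := Fintype.ofFinite (IrrCharacter G)
  have hab : a ≠ b := by
    rintro rfl
    have h1 : a = 1 := by simpa using hcop
    omega
  by_contra hcon
  push Not at hcon
  obtain ⟨⟨ω₁, hω₁, hc₁, hne₁⟩, ⟨ω₂, hω₂, hc₂, hne₂⟩⟩ := hcon
  have hχc := isCharacter_of_isIrrCharacter hχ
  have hψc := isCharacter_of_isIrrCharacter hψ
  obtain ⟨m, hm⟩ := exists_nat_combination (isCharacter_mul hχc hψc)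
  -- each constituent has degree `a` or `b`
  have hdeg : ∀ i : IrrCharacter G, m i ≠ 0 → (i : G → ℂ) 1 = a ∨ (i : G → ℂ) 1 = b := by
    intro i hi
    rcases hcd i i.2 with h | h
    · exfalso
      have h1 := not_linear hχ hψ i.2 hab hχ1 hψ1 h
      rw [hm, classInner_of_nat_combination] at h1
      exact hi (by exact_mod_cast h1)
    · exact h
  have hne : ∀ (ω : G → ℂ) (hω : IsIrrCharacter G ω), classInner (χ * ψ) ω ≠ 0 → m ⟨ω, hω⟩ ≠ 0 := by
    intro ω hω hc h0
    apply hc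
    rw [hm]
    rw [classInner_of_nat_combination m ⟨ω, hω⟩, h0]
    simp
  have h₁ := hne ω₁ hω₁ hc₁
  have h₂ := hne ω₂ hω₂ hc₂
  have hd₁ : ω₁ 1 = b := (hdeg ⟨ω₁, hω₁⟩ h₁).resolve_left hne₁
  have hd₂ : ω₂ 1 = a := (hdeg ⟨ω₂, hω₂⟩ h₂).resolve_right hne₂
  -- the count
  let s : ℕ := ∑ i : IrrCharacter G, if (i : G → ℂ) 1 = a then m i else 0
  let t : ℕ := ∑ i : IrrCharacter G, if (i : G → ℂ) 1 = a then 0 else m i
  have hval : ((a * b : ℕ) : ℂ) = ((a * s + b * t : ℕ) : ℂ) := by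
    have h1 := congrFun hm 1
    simp only [Pi.mul_apply, hχ1, hψ1, Finset.sum_apply, Pi.smul_apply] at h1
    simp only [nsmul_eq_mul] at h1
    push_cast
    rw [h1]
    simp only [s, t]
    push_cast
    rw [Finset.mul_sum, Finset.mul_sum, ← Finset.sum_add_distrib]
    refine Finset.sum_congr rfl fun i _ => ?_
    by_cases hi : m i = 0
    · simp [hi]
    · rcases hdeg i hi with h | h
      · rw [if_pos h, if_pos h, h]
        simp only [Nat.cast_zero, mul_zero, add_zero]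
        ring
      · have h3 : (i : G → ℂ) 1 ≠ a := by
          rw [h]
          intro h4
          exact hab (by exact_mod_cast h4.symm)
        rw [if_neg h3, if_neg h3, h]
        simp only [Nat.cast_zero, mul_zero, zero_add]
        ring
  have hval' : a * b = a * s + b * t := by exact_mod_cast hval
  have hs : 0 < s := by
    apply Finset.sum_pos' (fun _ _ => Nat.zero_le _)
    refine ⟨⟨ω₂, hω₂⟩, Finset.mem_univ _, ?_⟩
    simp only [if_pos hd₂]
    exact Nat.pos_of_ne_zero h₂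
  have ht : 0 < t := by
    apply Finset.sum_pos' (fun _ _ => Nat.zero_le _)
    refine ⟨⟨ω₁, hω₁⟩, Finset.mem_univ _, ?_⟩
    have h3 : ω₁ 1 ≠ a := hne₁
    simp only [if_neg h3]
    exact Nat.pos_of_ne_zero h₁
  have hbs : b ∣ s := by
    have h1 : b ∣ a * s := by
      have h2 : a * s = b * (a - t) := by
        have h3 : t ≤ a := by
          by_contra hlt
          have h4 : a + 1 ≤ t := by omega
          nlinarith
        rw [Nat.mul_sub, mul_comm b a]
        omega
      rw [h2]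
      exact dvd_mul_right _ _
    exact (Nat.Coprime.dvd_of_dvd_mul_left hcop.symm h1)
  have hat : a ∣ t := by
    have h1 : a ∣ b * t := by
      have h2 : b * t = a * (b - s) := by
        have h3 : s ≤ b := by
          by_contra hlt
          have h4 : b + 1 ≤ s := by omega
          nlinarith
        rw [Nat.mul_sub]
        omega
      rw [h2]
      exact dvd_mul_right _ _
    exact (Nat.Coprime.dvd_of_dvd_mul_left hcop h1)
  have hs2 := Nat.le_of_dvd hs hbs
  have ht2 := Nat.le_of_dvd ht hat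
  have : a * b + a * b ≤ a * s + b * t := by
    have h1 : a * b ≤ a * s := Nat.mul_le_mul_left _ hs2
    have h2 : b * a ≤ b * t := Nat.mul_le_mul_left _ ht2
    rw [mul_comm b a] at h2
    omega
  have hpos : 0 < a * b := by positivity
  omega

/-- The main lemma. -/
theorem constituent_deg (ha : 2 ≤ a) (hb : 2 ≤ b) (hcop : Nat.Coprime a b)
    (hcd : ∀ ω : G → ℂ, IsIrrCharacter G ω → ω 1 = 1 ∨ ω 1 = a ∨ ω 1 = b) {χ ψ ω : G → ℂ}
    (hχ : IsIrrCharacter G χ) (hψ : IsIrrCharacter G ψ) (hχ1 : χ 1 = a) (hψ1 : ψ 1 = b)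
    (hf : ∀ g, χ g * conj (χ g) = χ 1 * conj (χ 1) → g = 1)
    (hω : IsIrrCharacter G ω) (hc : classInner (χ * ψ) ω ≠ 0) : ω 1 = a := by
  classical
  have hab : a ≠ b := by
    rintro rfl
    have h1 : a = 1 := by simpa using hcop
    omega
  have hab' : (a : ℂ) ≠ b := by exact_mod_cast hab
  have hχc := isCharacter_of_isIrrCharacter hχ
  let χ' : G → ℂ := fun g => conj (χ g)
  have hχ' : IsIrrCharacter G χ' := Cfsg.Agent.Lib.Char.FrobSchur.isIrr_conj hχ
  have hχ'1 : χ' 1 = a := by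
    simp only [χ', hχ1, map_natCast]
  have hχ'' : (fun g => conj (χ' g)) = χ := by
    funext g
    simp [χ']
  rcases dichotomy ha hb hcop hcd hχ hψ hχ1 hψ1 with h | h
  · exact h ω hω hc
  exfalso
  let 𝒮 : (G → ℂ) → Prop := fun ψ => IsIrrCharacter G ψ ∧ ψ 1 = b ∧
    ∃ τ, IsIrrCharacter G τ ∧ τ 1 = b ∧ classInner (χ * ψ) τ ≠ 0
  have hS : ∀ ψ, 𝒮 ψ → IsIrrCharacter G ψ := fun ψ h => h.1
  have hSψ : 𝒮 ψ := ⟨hψ, hψ1, ω, hω, h ω hω hc, hc⟩
  have hgood : Good 𝒮 (χ * χ') := by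
    intro ψ₁ hψ₁ ω₁ hω₁ hc₁
    obtain ⟨hψ₁i, hψ₁1, τ, hτ, hτ1, hcτ⟩ := hψ₁
    have := finite_irrCharacter (G := G)
    letI := Fintype.ofFinite (IrrCharacter G)
    obtain ⟨m, hm⟩ := exists_nat_combination (isCharacter_mul hχc (isCharacter_of_isIrrCharacter hψ₁i))
    have h1 : χ * χ' * ψ₁ = ∑ i, m i • (χ' * (i : G → ℂ)) := by
      rw [mul_comm χ χ', mul_assoc, hm, Finset.mul_sum]
      refine Finset.sum_congr rfl fun i _ => ?_
      rw [mul_smul_comm]
    rw [h1, classInner_sum_left] at hc₁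
    obtain ⟨i, -, hi⟩ := Finset.exists_ne_zero_of_sum_ne_zero hc₁
    rw [classInner_nsmul_left] at hi
    have hmi : (m i : ℂ) ≠ 0 := left_ne_zero_of_mul hi
    have hci : classInner (χ' * (i : G → ℂ)) ω₁ ≠ 0 := right_ne_zero_of_mul hi
    have hcχi : classInner (χ * ψ₁) (i : G → ℂ) ≠ 0 := by
      rw [hm, classInner_of_nat_combination]
      exact hmi
    -- `i` has degree `b`
    have hi1 : (i : G → ℂ) 1 = b := by
      rcases dichotomy ha hb hcop hcd hχ hψ₁i hχ1 hψ₁1 with h2 | h2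
      · exfalso
        have h3 := h2 τ hτ hcτ
        rw [hτ1] at h3
        exact hab' h3.symm
      · exact h2 i i.2 hcχi
    -- `ψ₁` is a constituent of `χ' i`
    have hc2 : classInner (χ' * (i : G → ℂ)) ψ₁ ≠ 0 := by
      rw [classInner_mul_left, hχ'']
      exact classInner_ne_zero_comm hcχi
    have hω₁1 : ω₁ 1 = b := by
      rcases dichotomy ha hb hcop hcd hχ' i.2 hχ'1 hi1 with h2 | h2
      · exfalso
        have h3 := h2 ψ₁ hψ₁i hc2
        rw [hψ₁1] at h3
        exact hab' h3.symm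
      · exact h2 ω₁ hω₁ hci
    refine ⟨hω₁, hω₁1, i, i.2, hi1, ?_⟩
    rw [classInner_mul_left]
    exact classInner_ne_zero_comm hci
  -- the conclusion
  have hfaith : ∀ g, (χ * χ') g = (χ * χ') 1 → g = 1 := by
    intro g hg
    exact hf g hg
  have hψ' := Cfsg.Agent.Lib.Char.FrobSchur.isIrr_conj hψ
  obtain ⟨k, hk⟩ := exists_pow_classInner_ne_zero (ν := fun g => conj (ψ g)) hfaith
    (irr_one_ne_zero hψ')
  have hχχ' : IsCharacter G (χ * χ') := isCharacter_mul hχc (isCharacter_of_isIrrCharacter hχ')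
  obtain ⟨hg1, hg2⟩ := good_pow hS hχχ' hgood k
  have hgν := good_of_constituent hS hg2 hg1 hψ' hk
  have hone : IsIrrCharacter G (fun _ => (1 : ℂ)) :=
    Cfsg.Agent.Lib.Char.Linear.isIrrCharacter_of_deg_one isCharacter_one rfl
  have h5 := hgν ψ hSψ _ hone (by
    rw [classInner_mul_left]
    have h6 : (fun g => conj (conj (ψ g))) * (fun _ : G => (1 : ℂ)) = ψ := by
      funext g
      simp
    rw [h6, classInner_self_of_isIrr hψ]
    exact one_ne_zero)
  have h7 := h5.2.1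
  have h8 : (b : ℂ) = 1 := h7.symm
  have h9 : b = 1 := by exact_mod_cast h8
  omega

/-- Two characters of coprime degrees cannot both have `χ χ̄` faithful. -/
theorem false_of_faithful (ha : 2 ≤ a) (hb : 2 ≤ b) (hcop : Nat.Coprime a b)
    (hcd : ∀ ω : G → ℂ, IsIrrCharacter G ω → ω 1 = 1 ∨ ω 1 = a ∨ ω 1 = b) {χ ψ : G → ℂ}
    (hχ : IsIrrCharacter G χ) (hψ : IsIrrCharacter G ψ) (hχ1 : χ 1 = a) (hψ1 : ψ 1 = b)
    (hf : ∀ g, χ g * conj (χ g) = χ 1 * conj (χ 1) → g = 1)
    (hf' : ∀ g, ψ g * conj (ψ g) = ψ 1 * conj (ψ 1) → g = 1) : False := by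
  have hχc := isCharacter_of_isIrrCharacter hχ
  have hψc := isCharacter_of_isIrrCharacter hψ
  have hne : χ * ψ ≠ 0 := by
    intro h0
    have h1 := congrFun h0 1
    simp only [Pi.mul_apply, Pi.zero_apply] at h1
    exact (mul_ne_zero (irr_one_ne_zero hχ) (irr_one_ne_zero hψ)) h1
  obtain ⟨ω, hω, hc⟩ := exists_irr_constituent (isClassFunction_of_isCharacter (isCharacter_mul hχc hψc)) hne
  have h1 := constituent_deg ha hb hcop hcd hχ hψ hχ1 hψ1 hf hω hc
  have h2 := constituent_deg hb ha hcop.symm (fun ω hω => by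
    rcases hcd ω hω with h | h | h
    · exact Or.inl h
    · exact Or.inr (Or.inr h)
    · exact Or.inr (Or.inl h)) hψ hχ hψ1 hχ1 hf' hω (by rwa [mul_comm])
  rw [h1] at h2
  have h3 : a = b := by exact_mod_cast h2
  rw [h3] at hcop
  have h4 : b = 1 := by simpa using hcop
  omega

end Main

end Cfsg.Agent.Lib.CharDeg.ThreeDeg.Dich
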