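import Cfsg.Agent.Lib.CharDeg.ThreeDeg.Uniform
import Cfsg.Agent.Lib.Char.TwoDeg.Main
import Cfsg.Agent.Lib.Char.CliffordCorr
import Cfsg.Agent.Lib.Char.Extend
import Cfsg.Agent.Lib.OddChar.Inertia
import Cfsg.Agent.Lib.FPF.Concrete
import Mathlib

/-!
# Extensions to the inertia group; degrees over an invariant character
-/

set_option autoImplicit false
set_option linter.unusedSectionVars false

namespace Cfsg.Agent.Lib.CharDeg.ThreeDeg.Lift

open Cfsg Module
open Cfsg.Agent.Lib.Char.Basic Cfsg.Agent.Lib.Char.Ortho Cfsg.Agent.Lib.Char.Complete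
open Cfsg.Agent.Lib.Char.Degree Cfsg.Agent.Lib.Char.Clifford Cfsg.Agent.Lib.Char.Induced
open Cfsg.Agent.Lib.Char.Conj Cfsg.Agent.Lib.Char.IndRep Cfsg.Agent.Lib.Char.Taketa
open Cfsg.Agent.Lib.Char.CliffordCorr Cfsg.Agent.Lib.Char.Linear
open Cfsg.Agent.Lib.CharDeg.ThreeDeg.Perfect Cfsg.Agent.Lib.CharDeg.ThreeDeg.Uniform
open scoped ComplexConjugate

universe u

variable {G : Type u} [Group G] [Fintype G]

/-- Gallagher and Clifford together. -/
theorem exists_irr_of_ext {N : Subgroup G} (hN : N.Normal) [Fintype N] {θ : N → ℂ}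
    (hθ : IsIrrCharacter N θ) {T : Subgroup G} [Fintype T] (hNT : N ≤ T) (hT : T = inertia hN θ)
    {ψ : T → ℂ} (hψ : IsIrrCharacter T ψ) (hext : ∀ n : N, ψ ⟨n, hNT n.2⟩ = θ n)
    {β : T → ℂ} (hβ : IsIrrCharacter T β) (hβN : ∀ n : N, β ⟨n, hNT n.2⟩ = β 1) :
    ∃ χ : G → ℂ, IsIrrCharacter G χ ∧ classInner (fun n : N => χ n) θ ≠ 0 ∧
      χ 1 = (T.index : ℂ) * (β 1 * θ 1) := by
  classical
  let N' : Subgroup T := N.subgroupOf T
  haveI hN' : N'.Normal := hN.subgroupOf T
  let eqv : N' ≃* N := Subgroup.subgroupOfEquivOfLe hNT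
  letI : Fintype N' := Fintype.ofFinite _
  have hψN : IsIrrCharacter N' (fun n : N' => ψ n) := by
    have h1 : (fun n : N' => ψ n) = θ ∘ eqv := by
      funext n
      have := hext (eqv n)
      exact this
    rw [h1]
    exact isIrrCharacter_comp_mulEquiv eqv hθ
  have hprod : IsIrrCharacter T (β * ψ) :=
    Cfsg.Agent.Lib.Char.TwoDeg.CaseB.mul_irr_of_ext N' hψ hψN hβ (fun n => hβN (eqv n))
  have hres : res hNT (β * ψ) = (β 1) • θ := by
    funext n
    simp only [res, Pi.mul_apply, Pi.smul_apply, smul_eq_mul]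
    rw [hβN n, hext n]
  have hcon : classInner (res hNT (β * ψ)) θ ≠ 0 := by
    rw [hres, classInner_smul_left, classInner_self_of_isIrr hθ, mul_one]
    exact irr_one_ne_zero hβ
  obtain ⟨h1, h2⟩ := isIrrCharacter_indFun_of_lies_over hN hNT hθ hT hprod hcon
  refine ⟨_, h1, ?_, ?_⟩
  · rw [h2]
    exact hcon
  · rw [indFun_one, Pi.mul_apply]
    have h3 := hext 1
    have h4 : ψ 1 = θ 1 := h3
    rw [h4]

/-- The situation in which all characters over `θ` have the same degree. -/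
theorem index_and_commutator_mem {N : Subgroup G} (hN : N.Normal) [Fintype N] {θ : N → ℂ}
    (hθ : IsIrrCharacter N θ) {T : Subgroup G} [Fintype T] (hNT : N ≤ T) (hT : T = inertia hN θ)
    {ψ : T → ℂ} (hψ : IsIrrCharacter T ψ) (hext : ∀ n : N, ψ ⟨n, hNT n.2⟩ = θ n) {d : ℕ}
    (hd : ∀ χ : G → ℂ, IsIrrCharacter G χ → classInner (fun n : N => χ n) θ ≠ 0 → χ 1 ≠ 1 → χ 1 = d)
    (hne : (T.index : ℂ) * θ 1 ≠ 1) :
    (T.index : ℂ) * θ 1 = d ∧ ∀ x ∈ T, ∀ y ∈ T, x * y * x⁻¹ * y⁻¹ ∈ N := by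
  classical
  obtain ⟨e, he0, he⟩ := exists_pos_deg_of_isIrr hθ
  have hi0 : T.index ≠ 0 := Subgroup.index_ne_zero_of_finite
  have hne' : T.index * e ≠ 1 := by
    intro h
    apply hne
    rw [he]
    exact_mod_cast h
  have hone : IsIrrCharacter T (fun _ => (1 : ℂ)) :=
    isIrrCharacter_of_deg_one isCharacter_one rfl
  obtain ⟨χ₀, hχ₀, hχ₀c, hχ₀1⟩ := exists_irr_of_ext hN hθ hNT hT hψ hext hone (fun _ => rfl)
  have hdv : (T.index : ℂ) * θ 1 = d := by
    rw [← hd χ₀ hχ₀ hχ₀c (by rw [hχ₀1, one_mul]; exact hne), hχ₀1, one_mul]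
  have hdn : T.index * e = d := by
    rw [he] at hdv
    exact_mod_cast hdv
  refine ⟨hdv, ?_⟩
  intro x hx y hy
  let N' : Subgroup T := N.subgroupOf T
  haveI hN' : N'.Normal := hN.subgroupOf T
  have key := Cfsg.Agent.Lib.Char.TwoDeg.CaseB.commutator_mem_of_forall_linear (T := T) N' (by
    intro β hβ hβN
    obtain ⟨k, hk0, hk⟩ := exists_pos_deg_of_isIrr hβ
    have hβN' : ∀ n : N, β ⟨n, hNT n.2⟩ = β 1 := fun n =>
      hβN ⟨⟨n, hNT n.2⟩, by simpa [N', Subgroup.mem_subgroupOf] using n.2⟩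
    obtain ⟨χ, hχ, hχc, hχ1⟩ := exists_irr_of_ext hN hθ hNT hT hψ hext hβ hβN'
    have hχ1' : χ 1 = ((T.index * (k * e) : ℕ) : ℂ) := by
      rw [hχ1, hk, he]
      push_cast
      ring
    have hne1 : χ 1 ≠ 1 := by
      rw [hχ1']
      intro h
      have h2 : T.index * (k * e) = 1 := by exact_mod_cast h
      have h3 : T.index * e = 1 := by
        have : T.index * e ∣ 1 := ⟨k, by rw [mul_assoc, mul_comm e k]; exact h2.symm⟩
        exact Nat.dvd_one.mp this
      exact hne' h3
    have h4 := hd χ hχ hχc hne1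
    rw [hχ1'] at h4
    have h5 : T.index * (k * e) = d := by exact_mod_cast h4
    rw [← hdn] at h5
    have hpos : 0 < T.index * e := Nat.mul_pos (Nat.pos_of_ne_zero hi0) he0
    have h6 : k * (T.index * e) = 1 * (T.index * e) := by
      rw [one_mul]
      calc k * (T.index * e) = T.index * (k * e) := by ring
        _ = T.index * e := h5
    have h7 : k = 1 := Nat.eq_of_mul_eq_mul_right hpos h6
    rw [hk, h7]
    simp) ⟨x, hx⟩ ⟨y, hy⟩
  exact key

/-- Linear characters are trivial on commutators. -/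
theorem linear_eq_one_of_mem_commutator {X : Type u} [Group X] [Fintype X] {χ : X → ℂ}
    (hχ : IsCharacter X χ) (h1 : χ 1 = 1) {x : X} (hx : x ∈ commutator X) : χ x = 1 := by
  obtain ⟨lam, hlam⟩ := Cfsg.Agent.Lib.Char.Linear.exists_hom_of_deg_one hχ h1
  have hle : commutator X ≤ lam.ker := by
    rw [commutator_def, Subgroup.commutator_le]
    intro a _ b _
    rw [MonoidHom.mem_ker, commutatorElement_def]
    simp only [map_mul, map_inv]
    rw [mul_comm (lam a) (lam b)]
    group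
  have h2 : lam x = 1 := hle hx
  rw [hlam]
  simp only [h2, Units.val_one]

/-- Subgroups of index `a` in a group with degrees `1, a` contain the derived subgroup. -/
theorem commutator_le_of_index {X : Type u} [Group X] [Fintype X] {a : ℕ}
    (hcd : ∀ χ : IrrCharacter X, charDegree (χ : X → ℂ) = 1 ∨ charDegree (χ : X → ℂ) = a) (ha : a ≠ 1)
    (B : Subgroup X) (hB : B.index = a) : commutator X ≤ B := by
  classical
  letI : Fintype B := Fintype.ofFinite _
  intro x hx
  have hπ : IsCharacter X (indFun B (fun _ => (1 : ℂ))) := isCharacter_indFun B isCharacter_one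
  have hπ1 : indFun B (fun _ => (1 : ℂ)) 1 = (a : ℂ) := by
    rw [indFun_one, hB, mul_one]
  have hone : IsIrrCharacter X (fun _ => (1 : ℂ)) :=
    isIrrCharacter_of_deg_one isCharacter_one rfl
  have hcon1 : classInner (indFun B (fun _ => (1 : ℂ))) (fun _ : X => (1 : ℂ)) ≠ 0 := by
    rw [classInner_indFun_left B _ _ (fun _ _ => rfl)]
    have hone' : IsIrrCharacter B (fun _ => (1 : ℂ)) :=
      isIrrCharacter_of_deg_one isCharacter_one rfl
    rw [classInner_self_of_isIrr hone']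
    exact one_ne_zero
  have hlin : ∀ ζ : X → ℂ, IsIrrCharacter X ζ → classInner (indFun B (fun _ => (1 : ℂ))) ζ ≠ 0 →
      ζ 1 = 1 := by
    intro ζ hζ hcon
    have hζc := isCharacter_of_isIrrCharacter hζ
    rcases hcd ⟨ζ, hζ⟩ with h1 | h1
    · have h2 := charDegree_natCast hζc
      simp only at h1
      rw [h1] at h2
      rw [← h2]
      simp
    · exfalso
      simp only at h1
      have h2 := charDegree_natCast hζc
      rw [h1] at h2
      have heq := eq_of_constituent_of_deg_le hπ hζ hcon hπ1 h2.symm le_rfl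
      rw [heq] at hcon1
      by_cases hζ1 : ζ = fun _ => (1 : ℂ)
      · rw [hζ1] at h2
        apply ha
        have h3 : (a : ℂ) = 1 := h2
        exact_mod_cast h3
      · exact hcon1 (classInner_eq_zero_of_isIrr_of_ne hζ hone hζ1)
  apply mem_of_indFun_one_eq
  have := finite_irrCharacter (G := X)
  letI := Fintype.ofFinite (IrrCharacter X)
  have hexp := classFunction_eq_sum (isClassFunction_of_isCharacter hπ)
  rw [hexp]
  simp only [Finset.sum_apply, Pi.smul_apply, smul_eq_mul]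
  refine Finset.sum_congr rfl fun i _ => ?_
  by_cases hi : classInner (indFun B (fun _ => (1 : ℂ))) (i : X → ℂ) = 0
  · rw [hi, zero_mul, zero_mul]
  · have h1 := hlin i i.2 hi
    rw [h1, linear_eq_one_of_mem_commutator (isCharacter_of_isIrrCharacter i.2) h1 hx]

end Cfsg.Agent.Lib.CharDeg.ThreeDeg.Lift
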