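import Cfsg.Agent.Lib.CharDeg.ThreeDeg.Lift
import Cfsg.Agent.Lib.CharDeep.LinearChar
import Cfsg.Agent.Lib.Char.TwoDeg.PGroup
import Mathlib

/-!
# Sylow subgroups when all nonlinear degrees are equal; extensions through a cyclic section
-/

set_option autoImplicit false
set_option linter.unusedSectionVars false

namespace Cfsg.Agent.Lib.CharDeg.ThreeDeg.Sec

open Cfsg Module
open Cfsg.Agent.Lib.Char.Basic Cfsg.Agent.Lib.Char.Ortho Cfsg.Agent.Lib.Char.Complete
open Cfsg.Agent.Lib.Char.Degree Cfsg.Agent.Lib.Char.Clifford Cfsg.Agent.Lib.Char.Induced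
open Cfsg.Agent.Lib.Char.Conj Cfsg.Agent.Lib.Char.IndRep Cfsg.Agent.Lib.Char.Taketa
open Cfsg.Agent.Lib.Char.CliffordCorr Cfsg.Agent.Lib.Char.Linear
open Cfsg.Agent.Lib.CharDeg.ThreeDeg.Perfect Cfsg.Agent.Lib.CharDeg.ThreeDeg.Uniform
open Cfsg.Agent.Lib.CharDeg.ThreeDeg.Lift
open scoped ComplexConjugate

universe u

/-- A normal abelian subgroup of a group with no normal `p`-subgroups has order prime to `p`. -/
theorem not_dvd_card_of_abelian {Q : Type u} [Group Q] [Finite Q] {p : ℕ} [hp : Fact p.Prime]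
    (hOp : ∀ M : Subgroup Q, M.Normal → IsPGroup p M → M = ⊥) (A : Subgroup Q) (hAn : A.Normal)
    (hAc : ∀ a ∈ A, ∀ b ∈ A, a * b = b * a) : ¬ p ∣ Nat.card A := by
  intro hd
  haveI : IsMulCommutative A := ⟨⟨fun a b => Subtype.ext (hAc a a.2 b b.2)⟩⟩
  haveI : Group.IsNilpotent A := Cfsg.Agent.Lib.Core.Basic.isNilpotent_of_isMulCommutative
  let R : Sylow p A := default
  have hRn : (R : Subgroup A).Normal := inferInstance
  have hRc : (R : Subgroup A).Characteristic := Sylow.characteristic_of_normal R hRn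
  have hRGn : ((R : Subgroup A).map A.subtype).Normal := inferInstance
  have hRp : IsPGroup p ((R : Subgroup A).map A.subtype) :=
    R.isPGroup'.map A.subtype
  have h1 := hOp _ hRGn hRp
  have h2 : (R : Subgroup A) = ⊥ := by
    rw [eq_bot_iff]
    intro y hy
    have h3 : (y : Q) ∈ (R : Subgroup A).map A.subtype := ⟨y, hy, rfl⟩
    rw [h1, Subgroup.mem_bot] at h3
    exact Subgroup.mem_bot.mpr (Subtype.ext h3)
  exact R.ne_bot_of_dvd_card hd h2

/-- The derived subgroup is acted on fixed-point-freely. -/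
theorem isCyclic_of_pGroup {Q : Type u} [Group Q] [Fintype Q] {p : ℕ} [hp : Fact p.Prime] {a : ℕ}
    (hcd : ∀ χ : IrrCharacter Q, charDegree (χ : Q → ℂ) = 1 ∨ charDegree (χ : Q → ℂ) = a) (ha : a ≠ 1)
    (A : Subgroup Q) (hAn : A.Normal) (hAc : ∀ a ∈ A, ∀ b ∈ A, a * b = b * a) (hAi : A.index = a)
    (hcomm : commutator Q ≤ A) (hAp : ¬ p ∣ Nat.card A) (hna : commutator Q ≠ ⊥)
    (S : Subgroup Q) (hS : IsPGroup p S) : IsCyclic S := by
  classical
  have hpp : p.Prime := hp.out
  letI : Fintype A := Fintype.ofFinite _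
  -- `S` meets `A` trivially
  have hordS : ∀ s ∈ S, ∃ k, orderOf s ∣ p ^ k := by
    intro s hs
    obtain ⟨k, hk⟩ := hS ⟨s, hs⟩
    refine ⟨k, orderOf_dvd_of_pow_eq_one ?_⟩
    simpa using congrArg Subtype.val hk
  have hcopS : ∀ s ∈ S, Nat.Coprime (orderOf s) (Nat.card A) := by
    intro s hs
    obtain ⟨k, hk⟩ := hordS s hs
    have h1 : Nat.Coprime (p ^ k) (Nat.card A) :=
      Nat.Coprime.pow_left k ((Nat.Prime.coprime_iff_not_dvd hpp).mpr hAp)
    exact Nat.Coprime.coprime_dvd_left hk h1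
  have hdisj : ∀ s ∈ S, s ∈ A → s = 1 := by
    intro s hs hsA
    have h1 := hcopS s hs
    have h2 : orderOf s ∣ Nat.card A := Subgroup.orderOf_dvd_natCard A hsA
    have h3 : orderOf s = 1 := by
      have := Nat.dvd_gcd dvd_rfl h2
      rwa [h1.gcd_eq_one, Nat.dvd_one] at this
    exact orderOf_eq_one_iff.mp h3
  have hcmem : ∀ x y : Q, x * y * x⁻¹ * y⁻¹ ∈ commutator Q := fun x y =>
    Subgroup.commutator_mem_commutator (Subgroup.mem_top x) (Subgroup.mem_top y)
  refine Cfsg.Agent.Lib.FPF.Concrete.isCyclic_of_comm S (commutator Q)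
    (fun x hx y hy => hAc x (hcomm hx) y (hcomm hy)) hna ?_ ?_ ?_
  · rw [Subgroup.normalizer_eq_top]
    exact le_top
  · -- the key point
    intro s hs hs1 v hv hsv
    by_contra hv1
    have hvA : v ∈ A := hcomm hv
    have hXc : ∀ x y : A, x * y = y * x := fun x y => Subtype.ext (hAc x x.2 y y.2)
    obtain ⟨lam, -, hlam⟩ := Cfsg.Agent.Lib.Char.TwoDeg.PGroup.exists_hom_sep hXc ⊥ ⟨v, hvA⟩ (by
      rw [Subgroup.mem_bot]
      intro h
      exact hv1 (congrArg Subtype.val h))
    set n := orderOf s with hn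
    have hsn : s ^ n = 1 := pow_orderOf_eq_one s
    let cs := Cfsg.Agent.Lib.Char.TwoDeg.CaseA.cs hAn
    have hcs : ∀ (t : Q) (lam' : A →* ℂˣ) (y : A), cs t lam' y = lam' ⟨t * y * t⁻¹, hAn.conj_mem y y.2 t⟩ :=
      fun t lam' y => Cfsg.Agent.Lib.Char.TwoDeg.CaseA.cs_apply hAn t lam' y
    let ν : A →* ℂˣ := ∏ i ∈ Finset.range n, cs (s ^ i) lam
    have hνapp : ∀ y : A, ν y = ∏ i ∈ Finset.range n, lam ⟨s ^ i * y * (s ^ i)⁻¹, hAn.conj_mem y y.2 _⟩ := by
      intro y
      simp only [ν, MonoidHom.finset_prod_apply, hcs]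
    -- invariance
    have hνinv : ∀ y : A, ν ⟨s * y * s⁻¹, hAn.conj_mem y y.2 s⟩ = ν y := by
      intro y
      rw [hνapp, hνapp]
      let f : ℕ → ℂˣ := fun i => lam ⟨s ^ i * y * (s ^ i)⁻¹, hAn.conj_mem y y.2 _⟩
      have hf : ∀ i, lam ⟨s ^ i * (s * y * s⁻¹) * (s ^ i)⁻¹, hAn.conj_mem _ (hAn.conj_mem y y.2 s) _⟩ = f (i + 1) := by
        intro i
        simp only [f]
        congr 2
        rw [pow_succ]
        group
      simp only [hf]
      have h1 := Finset.prod_range_succ f n
      have h2 := Finset.prod_range_succ' f n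
      have h3 : f n = f 0 := by
        simp only [f]
        congr 2
        rw [hsn]
        simp
      rw [h1, h3] at h2
      exact (mul_right_cancel h2).symm
    -- the value at `v`
    have hνv : ν ⟨v, hvA⟩ = lam ⟨v, hvA⟩ ^ n := by
      rw [hνapp, ← Finset.card_range n, ← Finset.prod_const, Finset.card_range]
      refine Finset.prod_congr rfl fun i _ => ?_
      congr 2
      have hcomm' : Commute s v := hsv
      have h1 : s ^ i * v = v * s ^ i := (hcomm'.pow_left i).eq
      rw [h1, mul_inv_cancel_right]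
    have hνv1 : ν ⟨v, hvA⟩ ≠ 1 := by
      rw [hνv]
      intro h1
      have h2 : lam ⟨v, hvA⟩ ^ Nat.card A = 1 := by
        rw [← map_pow, pow_card_eq_one']
        simp
      have h3 := pow_gcd_eq_one.mpr ⟨h1, h2⟩
      rw [(hcopS s hs).gcd_eq_one, pow_one] at h3
      exact hlam h3
    -- the induced character
    let νf : A → ℂ := fun y => ((ν y : ℂˣ) : ℂ)
    have hνc : IsCharacter A νf := Cfsg.Agent.Lib.CharDeep.LinearChar.isCharacter_of_hom ν
    have hνf1 : νf 1 = 1 := by simp [νf]
    have hνirr : IsIrrCharacter A νf := isIrrCharacter_of_deg_one hνc hνf1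
    have hψc : IsCharacter Q (indFun A νf) := isCharacter_indFun A hνc
    have hψ1 : indFun A νf 1 = (a : ℂ) := by
      rw [indFun_one, hAi, hνf1, mul_one]
    have hψne : indFun A νf ≠ 0 := by
      intro h0
      have h1 := congrFun h0 1
      rw [hψ1] at h1
      have h2 : a ≠ 0 := by
        rw [← hAi]
        exact Subgroup.index_ne_zero_of_finite
      have h3 : (a : ℂ) = 0 := h1
      exact h2 (by exact_mod_cast h3)
    obtain ⟨ζ, hζ, hζc⟩ := exists_irr_constituent (isClassFunction_of_isCharacter hψc) hψne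
    have hζc' : classInner (indFun A νf) ζ ≠ 0 := hζc
    have hζcA : classInner νf (fun y : A => ζ y) ≠ 0 := by
      rw [← classInner_indFun_left A _ _ (isClassFunction_of_isIrrCharacter hζ)]
      exact hζc'
    have hζdeg : charDegree ζ = a := by
      rcases hcd ⟨ζ, hζ⟩ with h1 | h1
      · exfalso
        simp only at h1
        have h2 := charDegree_natCast (isCharacter_of_isIrrCharacter hζ)
        rw [h1] at h2
        have h3 : ζ 1 = 1 := by rw [← h2]; simp
        have hres : IsCharacter A (fun y : A => ζ y) :=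
          isCharacter_restrict A (isCharacter_of_isIrrCharacter hζ)
        have hresirr : IsIrrCharacter A (fun y : A => ζ y) :=
          isIrrCharacter_of_deg_one hres (by simpa using h3)
        have heq : νf = fun y : A => ζ y := by
          by_contra hne
          exact hζcA (classInner_eq_zero_of_isIrr_of_ne hνirr hresirr hne)
        have h4 := congrFun heq ⟨v, hvA⟩
        have h5 : ζ v = 1 := linear_eq_one_of_mem_commutator (isCharacter_of_isIrrCharacter hζ) h3 hv
        have h6 : νf ⟨v, hvA⟩ = 1 := by rw [h4]; exact h5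
        apply hνv1
        exact Units.val_injective h6
      · exact h1
    have hζ1 : ζ 1 = (a : ℂ) := by
      rw [← charDegree_natCast (isCharacter_of_isIrrCharacter hζ), hζdeg]
    have heq := eq_of_constituent_of_deg_le hψc hζ hζc hψ1 hζ1 le_rfl
    have hψirr : IsIrrCharacter Q (indFun A νf) := by rw [heq]; exact hζ
    have hcon1 : classInner (indFun A νf) (indFun A νf) = 1 := classInner_self_of_isIrr hψirr
    have hcon2 : classInner νf (fun y : A => indFun A νf y) = 1 := by
      rw [← classInner_indFun_left A _ _ (isClassFunction_of_isCharacter hψc)]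
      exact hcon1
    have hcon3 : classInner (fun y : A => indFun A νf y) νf = 1 := by
      rw [← classInner_conj, hcon2]
      simp
    have hdeg := deg_eq_of_constituent hAn hψirr hνirr (by rw [hcon3]; exact one_ne_zero)
    rw [hcon3, hνf1, hψ1, one_mul, mul_one] at hdeg
    have hidx : (inertia hAn νf).index = A.index := by
      rw [hAi]
      exact_mod_cast hdeg.symm
    have hAT : A = inertia hAn νf :=
      Cfsg.Agent.Lib.Char.TwoDeg.CaseA.eq_of_le_of_index_eq
        (le_inertia hAn (isClassFunction_of_isIrrCharacter hνirr)) hidx.symm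
    have hsT : s ∈ inertia hAn νf := by
      rw [mem_inertia]
      funext y
      rw [conjOn_apply]
      simp only [νf]
      rw [hνinv y]
    rw [← hAT] at hsT
    exact hs1 (hdisj s hs hsT)
  · intro x hx y hy
    have h1 : x * y * x⁻¹ * y⁻¹ ∈ S :=
      S.mul_mem (S.mul_mem (S.mul_mem hx hy) (S.inv_mem hx)) (S.inv_mem hy)
    have h2 := hdisj _ h1 (hcomm (hcmem x y))
    have h3 : x * y = (x * y * x⁻¹ * y⁻¹) * (y * x) := by group
    rw [h3, h2, one_mul]

/-- Transport of an invariant character to an intermediate subgroup. -/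
theorem transfer_inv' {X : Type u} [Group X] {N L : Subgroup X} (hN : N.Normal) (hNL : N ≤ L) {θ : N → ℂ}
    (hinv : ∀ g : X, conjOn hN g θ = θ) (c : L) :
    conjOn (hN.subgroupOf L) c (θ ∘ Subgroup.subgroupOfEquivOfLe hNL) =
      θ ∘ Subgroup.subgroupOfEquivOfLe hNL := by
  funext n
  have h1 := congrFun (hinv c) (Subgroup.subgroupOfEquivOfLe hNL n)
  rw [conjOn_apply] at h1
  exact (congrArg θ (Subtype.ext rfl)).trans h1

/-- An invariant character of a normal `p`-subgroup extends if the `p`-sections are cyclic. -/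
theorem exists_ext_of_cyclic_sections {X : Type u} [Group X] [Fintype X] {N : Subgroup X} (hN : N.Normal)
    [Fintype N] {p : ℕ} [hp : Fact p.Prime] (hNp : IsPGroup p N) {θ : N → ℂ} (hθ : IsIrrCharacter N θ)
    (hinv : ∀ c : X, conjOn hN c θ = θ)
    (hcyc : ∀ S : Subgroup X, N ≤ S → IsPGroup p S → IsCyclic (S ⧸ N.subgroupOf S)) :
    ∃ ψ : X → ℂ, IsIrrCharacter X ψ ∧ ∀ n : N, ψ n = θ n := by
  classical
  have hpp : p.Prime := hp.out
  refine Cfsg.Agent.Lib.Char.Extend.exists_irr_ext_of_local hN hθ hinv ?_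
  intro q hq
  haveI hqf : Fact q.Prime := ⟨hq⟩
  let Q₁ : Sylow q X := default
  let P : Subgroup X := N ⊔ (Q₁ : Subgroup X)
  have hNP : N ≤ P := le_sup_left
  have hQP : (Q₁ : Subgroup X) ≤ P := le_sup_right
  have hidx : Nat.Coprime P.index q := by
    have h1 := Subgroup.relIndex_mul_index hQP
    have h2 : P.index ∣ (Q₁ : Subgroup X).index := Dvd.intro_left _ h1
    have h3 : ¬ q ∣ (Q₁ : Subgroup X).index := Q₁.not_dvd_index
    apply Nat.Coprime.symm
    rw [Nat.Prime.coprime_iff_not_dvd hq]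
    exact fun h4 => h3 (h4.trans h2)
  letI : Fintype P := Fintype.ofFinite _
  letI : Fintype (N.subgroupOf P) := Fintype.ofFinite _
  let eqv : N.subgroupOf P ≃* N := Subgroup.subgroupOfEquivOfLe hNP
  have hθ' : IsIrrCharacter (N.subgroupOf P) (θ ∘ eqv) := isIrrCharacter_comp_mulEquiv eqv hθ
  have hinv' : ∀ c : P, conjOn (hN.subgroupOf P) c (θ ∘ eqv) = θ ∘ eqv := fun c =>
    transfer_inv' hN hNP hinv c
  have hext : ∃ η : P → ℂ, IsIrrCharacter P η ∧ ∀ n : N.subgroupOf P, η n = (θ ∘ eqv) n := by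
    by_cases hqp : q = p
    · subst hqp
      haveI := hN
      have hPp : IsPGroup q P := hNp.to_sup_of_normal_left Q₁.isPGroup'
      exact Cfsg.Agent.Lib.Char.Extend.exists_irr_ext_of_cyclic (hN.subgroupOf P) hθ' hinv'
        (hcyc P hNP hPp)
    · haveI := hN
      refine Cfsg.Agent.Lib.OddChar.Inertia.exists_ext_of_coprime (hN.subgroupOf P) hθ' hinv' ?_
      have h1 : Nat.card (N.subgroupOf P) = Nat.card N := Nat.card_congr eqv.toEquiv
      have h2 : (N.subgroupOf P).index = N.relIndex (Q₁ : Subgroup X) :=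
        Subgroup.relIndex_sup_left (Q₁ : Subgroup X) N
      rw [h1, h2]
      have h3 : N.relIndex (Q₁ : Subgroup X) ∣ Nat.card (Q₁ : Subgroup X) := Subgroup.relIndex_dvd_card _ _
      obtain ⟨k, hk⟩ := IsPGroup.iff_card.mp hNp
      obtain ⟨l, hl⟩ := IsPGroup.iff_card.mp Q₁.isPGroup'
      rw [hl] at h3
      rw [hk]
      have h4 : Nat.Coprime (p ^ k) (q ^ l) :=
        Nat.Coprime.pow k l ((Nat.coprime_primes hpp hq).mpr (Ne.symm hqp))
      exact Nat.Coprime.coprime_dvd_right h3 h4
  obtain ⟨η, hη, hηe⟩ := hext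
  refine ⟨P, hNP, η, hidx, isCharacter_of_isIrrCharacter hη, ?_⟩
  intro n
  exact hηe (eqv.symm n) |>.trans (by simp)

/-- Sections of a subgroup embed in the quotient. -/
theorem isCyclic_section {G : Type u} [Group G] [Finite G] {p : ℕ} [hp : Fact p.Prime] {F : Subgroup G}
    [hF : F.Normal] (h : ∀ M : Subgroup (G ⧸ F), IsPGroup p M → IsCyclic M) (T : Subgroup G)
    (S : Subgroup T) (hS : IsPGroup p S) : IsCyclic (S ⧸ (F.subgroupOf T).subgroupOf S) := by
  classical
  let f : S →* G ⧸ F := (QuotientGroup.mk' F).comp (T.subtype.comp S.subtype)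
  have hker : f.ker = (F.subgroupOf T).subgroupOf S := by
    ext x
    rw [MonoidHom.mem_ker, Subgroup.mem_subgroupOf, Subgroup.mem_subgroupOf]
    simp [f, QuotientGroup.eq_one_iff]
  have hrp : IsPGroup p f.range := hS.of_surjective f.rangeRestrict f.rangeRestrict_surjective
  haveI := h _ hrp
  let e : (S ⧸ f.ker) ≃* f.range := QuotientGroup.quotientKerEquivRange f
  let e2 : (S ⧸ (F.subgroupOf T).subgroupOf S) ≃* (S ⧸ f.ker) :=
    QuotientGroup.quotientMulEquivOfEq hker.symm
  let e3 := e2.trans e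
  exact isCyclic_of_surjective e3.symm e3.symm.surjective

/-- No normal `p`-subgroup in the quotient by a maximal normal `p`-subgroup. -/
theorem hOp_quotient {G : Type u} [Group G] [Finite G] {p : ℕ} {F : Subgroup G} [hF : F.Normal]
    (hFp : IsPGroup p F) (hmax : ∀ M : Subgroup G, M.Normal → IsPGroup p M → M ≤ F)
    (M : Subgroup (G ⧸ F)) (hM : M.Normal) (hMp : IsPGroup p M) : M = ⊥ := by
  classical
  have hc : (M.comap (QuotientGroup.mk' F)).Normal := hM.comap _
  have hcp : IsPGroup p (M.comap (QuotientGroup.mk' F)) := by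
    intro x
    obtain ⟨k, hk⟩ := hMp ⟨QuotientGroup.mk' F x, x.2⟩
    have h1 : ((x : G) ^ p ^ k : G) ∈ F := by
      rw [← QuotientGroup.eq_one_iff]
      have := congrArg Subtype.val hk
      simpa using this
    obtain ⟨l, hl⟩ := hFp ⟨_, h1⟩
    refine ⟨k + l, Subtype.ext ?_⟩
    have h2 := congrArg Subtype.val hl
    simp only [SubmonoidClass.mk_pow, OneMemClass.coe_one] at h2
    simp only [SubmonoidClass.coe_pow, OneMemClass.coe_one]
    rw [pow_add, pow_mul]
    exact h2
  have hle := hmax _ hc hcp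
  rw [eq_bot_iff]
  intro x hx
  obtain ⟨g, rfl⟩ := QuotientGroup.mk'_surjective F x
  have h1 : g ∈ F := hle hx
  rw [Subgroup.mem_bot, QuotientGroup.mk'_apply, QuotientGroup.eq_one_iff]
  exact h1

/-- Linear characters detect the commutator subgroup. -/
theorem mem_commutator_of_forall_hom {X : Type u} [Group X] [Finite X] {c : X}
    (h : ∀ lam : X →* ℂˣ, lam c = 1) : c ∈ commutator X := by
  classical
  by_contra hc
  have hX : ∀ a b : Abelianization X, a * b = b * a := fun a b => mul_comm a b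
  obtain ⟨lam, -, hlam⟩ := Cfsg.Agent.Lib.Char.TwoDeg.PGroup.exists_hom_sep hX ⊥
    (Abelianization.of c) (by
      rw [Subgroup.mem_bot]
      intro h1
      apply hc
      rw [← Abelianization.ker_of]
      exact h1)
  exact hlam (h (lam.comp Abelianization.of))

end Cfsg.Agent.Lib.CharDeg.ThreeDeg.Sec
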